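import Mathlib
import Cfsg.Prelude.Def_DegreeGraph
import Cfsg.Prelude.Def_Characters

/-!
# S3670: definitions shared by all `U33` pieces (helper13)

`GSetup G` : the concrete group-theoretic facts about `G = U₃(3)` that the abstract proof uses.
`BSetup Bt` : the same facts for the Borel subgroup `B = 3^{1+2} : 8` as a group of its own.
`HCData G` : what the "Harish-Chandra by hand" count uses about `G`, `B` and the characters of `B`.
-/

set_option autoImplicit false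

namespace Cfsg.Agent.U33

open scoped ComplexConjugate

universe u

/-- Group-theoretic data in `G = U₃(3)`: `U = 3^{1+2}`, `Z = Z(U)`, `t` of order `8` normalising `U`,
`w` the Weyl element.  The Borel subgroup is `U ⊔ zpowers t`. -/
structure GSetup (G : Type u) [Group G] where
  U : Subgroup G
  Z : Subgroup G
  t : G
  w : G
  card_G : Nat.card G = 6048
  card_U : Nat.card U = 27
  card_Z : Nat.card Z = 3
  Z_le_U : Z ≤ U
  order_t : orderOf t = 8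
  t_norm : ∀ u ∈ U, t * u * t⁻¹ ∈ U
  Z_central : ∀ z ∈ Z, ∀ u ∈ U, z * u = u * z
  Z_comm : ∃ u₁ ∈ U, ∃ u₂ ∈ U, u₁ * u₂ * u₁⁻¹ * u₂⁻¹ ∈ Z ∧ u₁ * u₂ * u₁⁻¹ * u₂⁻¹ ≠ 1
  t_inv_Z : ∀ z ∈ Z, t * z * t⁻¹ = z⁻¹
  t4_inv : ∀ u ∈ U, t ^ 4 * u * (t ^ 4)⁻¹ * u ∈ Z
  w_t : w⁻¹ * t * w = t ^ 5
  w_U : ∀ u ∈ U, w⁻¹ * u * w ∈ U ⊔ Subgroup.zpowers t → u = 1

/-- The Borel subgroup of a `GSetup`. -/
def GSetup.B {G : Type u} [Group G] (S : GSetup G) : Subgroup G := S.U ⊔ Subgroup.zpowers S.t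

/-- The structure of `B = 3^{1+2} : 8` as an abstract group. -/
structure BSetup (Bt : Type u) [Group Bt] where
  U : Subgroup Bt
  Z : Subgroup Bt
  t : Bt
  card_B : Nat.card Bt = 216
  U_normal : U.Normal
  card_U : Nat.card U = 27
  card_Z : Nat.card Z = 3
  Z_le_U : Z ≤ U
  order_t : orderOf t = 8
  Z_central : ∀ z ∈ Z, ∀ u ∈ U, z * u = u * z
  Z_comm : ∃ u₁ ∈ U, ∃ u₂ ∈ U, u₁ * u₂ * u₁⁻¹ * u₂⁻¹ ∈ Z ∧ u₁ * u₂ * u₁⁻¹ * u₂⁻¹ ≠ 1
  t_inv_Z : ∀ z ∈ Z, t * z * t⁻¹ = z⁻¹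
  t4_inv : ∀ u ∈ U, t ^ 4 * u * (t ^ 4)⁻¹ * u ∈ Z

/-- The `k`-th power of a linear character, as a complex function. -/
noncomputable def lamk {B : Type u} [Group B] (lam : B →* ℂˣ) (k : ℕ) : B → ℂ :=
  fun b => ((lam b : ℂˣ) : ℂ) ^ k

/-- The pairing over the torus `T = ⟨t⟩` twisted by `w` (which acts on `T` by `x ↦ x ^ 5`). -/
noncomputable def tPair {B : Type u} [Group B] (tB : B) (φ φ' : B → ℂ) : ℂ :=
  (8 : ℂ)⁻¹ * ∑ j ∈ Finset.range 8, φ (tB ^ j) * conj (φ' (tB ^ (5 * j)))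

/-- The character-theoretic output about `B` (module BT). -/
structure BChars (Bt : Type u) [Group Bt] (tB : Bt) where
  lam : Bt →* ℂˣ
  psi8 : Bt → ℂ
  zeta_prim : IsPrimitiveRoot ((lam tB : ℂˣ) : ℂ) 8
  psi8_irr : IsIrrCharacter Bt psi8
  psi8_one : psi8 1 = 8
  psi8_t : ∀ j : ℕ, ¬ 8 ∣ j → psi8 (tB ^ j) = 0
  tricho : ∀ ψ : Bt → ℂ, IsIrrCharacter Bt ψ →
    (∃ k : ℕ, k < 8 ∧ ψ = lamk lam k) ∨ ψ = psi8 ∨ 6 ∣ charDegree ψ

/-- Everything the count in `G` uses. -/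
structure HCData (G : Type u) [Group G] [Fintype G] where
  B : Subgroup G
  tB : B
  ch : BChars B tB
  card_G : Nat.card G = 6048
  card_B : Nat.card B = 216
  simple : IsSimpleGroup G
  mackey : ∀ [Fintype B] (φ φ' : B → ℂ), IsClassFunction B φ → IsClassFunction B φ' →
    classInner (indFun B φ) (indFun B φ') = classInner φ φ' + tPair tB φ φ'

end Cfsg.Agent.U33
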