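import Mathlib
import Cfsg.Agent.Lib.U33.U33Defs

/-! S3670 sub-piece U33-BT-GRP (module BT, sub-farmed by helper22): elementary group facts about
`B = U ⋊ ⟨t⟩`, `|B| = 216`, `|U| = 27`, `o(t) = 8`.  See plans/S3670_BT_plan.md. -/

set_option autoImplicit false
set_option linter.unusedSectionVars false

namespace Cfsg.Agent.U33

universe u

variable {Bt : Type u} [Group Bt] [Finite Bt]

theorem u33bt_grp_pow_card (S : BSetup Bt) (x : Bt) (hx : x ∈ S.U) : x ^ 27 = 1 := by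
  have h := pow_card_eq_one' (G := S.U) (x := ⟨x, hx⟩)
  rw [S.card_U] at h
  have := congrArg Subtype.val h
  simpa using this

/-- `t ^ j ∈ U ↔ 8 ∣ j` -/
theorem bt_pow_mem_U (S : BSetup Bt) (j : ℕ) : S.t ^ j ∈ S.U ↔ 8 ∣ j := by
  constructor
  · intro h
    have h1 := u33bt_grp_pow_card S _ h
    rw [← pow_mul] at h1
    have h2 : orderOf S.t ∣ j * 27 := orderOf_dvd_of_pow_eq_one h1
    rw [S.order_t] at h2
    exact (Nat.Coprime.dvd_of_dvd_mul_right (by norm_num) h2)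
  · rintro ⟨m, rfl⟩
    rw [pow_mul, ← S.order_t, pow_orderOf_eq_one, one_pow]
    exact S.U.one_mem

theorem u33bt_grp_zpow_mem (S : BSetup Bt) (n : ℤ) (h : S.t ^ n ∈ S.U) : S.t ^ n = 1 := by
  have h8 : S.t ^ (8 : ℤ) = 1 := by
    have := pow_orderOf_eq_one S.t
    rw [S.order_t] at this
    exact_mod_cast this
  have hmod : S.t ^ n = S.t ^ (n % 8) := by
    conv_lhs => rw [← Int.emod_add_mul_ediv n 8]
    rw [zpow_add, zpow_mul, h8, one_zpow, mul_one]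
  have hnn : 0 ≤ n % 8 := Int.emod_nonneg _ (by norm_num)
  obtain ⟨k, hk⟩ := Int.eq_ofNat_of_zero_le hnn
  rw [hmod, hk, zpow_natCast] at h ⊢
  obtain ⟨m, rfl⟩ := (bt_pow_mem_U S k).mp h
  rw [pow_mul, ← S.order_t, pow_orderOf_eq_one, one_pow]

theorem u33bt_grp_inj (S : BSetup Bt) :
    Function.Injective (fun p : S.U × Fin 8 => (p.1 : Bt) * S.t ^ (p.2 : ℕ)) := by
  rintro ⟨u, i⟩ ⟨u', i'⟩ h
  simp only at h
  have h1 : S.t ^ ((i : ℕ) : ℤ) * (S.t ^ ((i' : ℕ) : ℤ))⁻¹ = (u : Bt)⁻¹ * (u' : Bt) := by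
    rw [zpow_natCast, zpow_natCast]
    have : S.t ^ (i : ℕ) = (u : Bt)⁻¹ * ((u' : Bt) * S.t ^ (i' : ℕ)) := by
      rw [← h]; group
    rw [this]; group
  have h2 : S.t ^ (((i : ℕ) : ℤ) - ((i' : ℕ) : ℤ)) ∈ S.U := by
    rw [zpow_sub, h1]
    exact S.U.mul_mem (S.U.inv_mem u.2) u'.2
  have h3 := u33bt_grp_zpow_mem S _ h2
  have h4 : (orderOf S.t : ℤ) ∣ ((i : ℕ) : ℤ) - ((i' : ℕ) : ℤ) := orderOf_dvd_iff_zpow_eq_one.mpr h3
  rw [S.order_t] at h4
  have hi := i.2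
  have hi' := i'.2
  have h5 : (i : ℕ) = (i' : ℕ) := by omega
  have h6 : i = i' := Fin.ext h5
  subst h6
  have h7 : (u : Bt) = (u' : Bt) := mul_right_cancel h
  have h8 : u = u' := Subtype.ext h7
  subst h8
  rfl

/-- Every element of `B` is `u * t ^ j`. -/
theorem bt_exists_mul (S : BSetup Bt) (b : Bt) :
    ∃ u ∈ S.U, ∃ j : ℕ, j < 8 ∧ b = u * S.t ^ j := by
  have hcard : Nat.card Bt ≤ Nat.card (S.U × Fin 8) := by
    rw [Nat.card_prod, S.card_U, S.card_B, Nat.card_eq_fintype_card, Fintype.card_fin]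
  have hbij := Function.Injective.bijective_of_nat_card_le (u33bt_grp_inj S) hcard
  obtain ⟨⟨u, j⟩, h⟩ := hbij.2 b
  exact ⟨u, u.2, j, j.2, h.symm⟩

theorem bt_Z_normal (S : BSetup Bt) : S.Z.Normal := by
  constructor
  intro z hz b
  obtain ⟨u, hu, j, -, rfl⟩ := bt_exists_mul S b
  have ht : ∀ j : ℕ, ∀ z ∈ S.Z, S.t ^ j * z * (S.t ^ j)⁻¹ ∈ S.Z := by
    intro j
    induction j with
    | zero => intro z hz; simpa using hz
    | succ n ih =>
      intro z hz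
      have h1 := ih z hz
      have h2 := S.t_inv_Z _ h1
      have h3 : S.t ^ (n + 1) * z * (S.t ^ (n + 1))⁻¹ = S.t * (S.t ^ n * z * (S.t ^ n)⁻¹) * S.t⁻¹ := by
        rw [pow_succ']; group
      rw [h3, h2]
      exact S.Z.inv_mem h1
  have h1 := ht j z hz
  have h2 : u * S.t ^ j * z * (u * S.t ^ j)⁻¹ = u * (S.t ^ j * z * (S.t ^ j)⁻¹) * u⁻¹ := by group
  rw [h2]
  have h3 := S.Z_central _ h1 u hu
  have h4 : u * (S.t ^ j * z * (S.t ^ j)⁻¹) * u⁻¹ = S.t ^ j * z * (S.t ^ j)⁻¹ := by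
    rw [← h3]; group
  rw [h4]; exact h1

end Cfsg.Agent.U33
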