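import Mathlib
import Cfsg.Agent.Lib.U33.U33Defs
import Cfsg.Agent.Lib.U33.U33BTGRP
import Cfsg.Agent.Lib.Helper5.Clifford

/-! S3670 sub-piece U33-BT-INERT (module BT, sub-farmed by helper22): a nontrivial linear character
`ξ` of `U` that is trivial on `Z` is moved by every element of `B` outside `U`.
See plans/S3670_BT_plan.md. -/

set_option autoImplicit false
set_option linter.unusedSectionVars false
set_option linter.style.haveILetI false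

namespace Cfsg.Agent.U33

universe u

variable {Bt : Type u} [Group Bt] [Finite Bt]

/-- `t^4` is a power of `t^k` when `¬ 8 ∣ k`. -/
theorem u33bt_inert_pow (S : BSetup Bt) (k : ℕ) (hk : ¬ 8 ∣ k) :
    ∃ m : ℕ, (S.t ^ k) ^ m = S.t ^ 4 := by
  have h8 : S.t ^ 8 = 1 := by rw [← S.order_t]; exact pow_orderOf_eq_one _
  have hred : ∀ n : ℕ, S.t ^ n = S.t ^ (n % 8) := by
    intro n
    conv_lhs => rw [← Nat.mod_add_div n 8]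
    rw [pow_add, pow_mul, h8, one_pow, mul_one]
  have hk8 : k % 8 ≠ 0 := fun h => hk (Nat.dvd_of_mod_eq_zero h)
  have hcases : k % 8 = 1 ∨ k % 8 = 2 ∨ k % 8 = 3 ∨ k % 8 = 4 ∨ k % 8 = 5 ∨ k % 8 = 6 ∨ k % 8 = 7 := by
    omega
  rcases hcases with hc | hc | hc | hc | hc | hc | hc
  · exact ⟨4, by rw [← pow_mul, hred, Nat.mul_mod, hc]⟩
  · exact ⟨2, by rw [← pow_mul, hred, Nat.mul_mod, hc]⟩
  · exact ⟨4, by rw [← pow_mul, hred, Nat.mul_mod, hc]⟩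
  · exact ⟨1, by rw [← pow_mul, hred, Nat.mul_mod, hc]⟩
  · exact ⟨4, by rw [← pow_mul, hred, Nat.mul_mod, hc]⟩
  · exact ⟨2, by rw [← pow_mul, hred, Nat.mul_mod, hc]⟩
  · exact ⟨4, by rw [← pow_mul, hred, Nat.mul_mod, hc]⟩

/-- The conjugation-fixing elements form a submonoid: powers. -/
theorem u33bt_inert_fix_pow (S : BSetup Bt) (ξ : S.U →* ℂˣ) (g : Bt)
    (hg : ∀ (u : Bt) (hu : u ∈ S.U) (hu' : g * u * g⁻¹ ∈ S.U), ξ ⟨g * u * g⁻¹, hu'⟩ = ξ ⟨u, hu⟩)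
    (m : ℕ) :
    ∀ (u : Bt) (hu : u ∈ S.U) (hu' : g ^ m * u * (g ^ m)⁻¹ ∈ S.U),
      ξ ⟨g ^ m * u * (g ^ m)⁻¹, hu'⟩ = ξ ⟨u, hu⟩ := by
  haveI := S.U_normal
  induction m with
  | zero =>
    intro u hu hu'
    congr 1
    apply Subtype.ext
    simp
  | succ n ih =>
    intro u hu hu'
    have h1 : g ^ n * u * (g ^ n)⁻¹ ∈ S.U := S.U_normal.conj_mem u hu (g ^ n)
    have h2 : g ^ (n + 1) * u * (g ^ (n + 1))⁻¹ = g * (g ^ n * u * (g ^ n)⁻¹) * g⁻¹ := by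
      rw [pow_succ']; group
    have h3 : g * (g ^ n * u * (g ^ n)⁻¹) * g⁻¹ ∈ S.U := h2 ▸ hu'
    have h4 : (⟨g ^ (n + 1) * u * (g ^ (n + 1))⁻¹, hu'⟩ : S.U) = ⟨g * (g ^ n * u * (g ^ n)⁻¹) * g⁻¹, h3⟩ :=
      Subtype.ext h2
    rw [h4, hg _ h1 h3, ih u hu h1]

theorem bt_conj_xi_ne (S : BSetup Bt) (ξ : S.U →* ℂˣ) (hξ : ξ ≠ 1)
    (hZ : ∀ z : S.U, (z : Bt) ∈ S.Z → ξ z = 1) (b : Bt) (hb : b ∉ S.U) :
    haveI := S.U_normal
    Cfsg.Agent.Helper5.conjFun S.U b (fun u : S.U => ((ξ u : ℂˣ) : ℂ)) ≠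
      (fun u : S.U => ((ξ u : ℂˣ) : ℂ)) := by
  haveI := S.U_normal
  intro hfix
  apply hξ
  -- b fixes ξ
  have hbfix : ∀ (u : Bt) (hu : u ∈ S.U) (hu' : b * u * b⁻¹ ∈ S.U),
      ξ ⟨b * u * b⁻¹, hu'⟩ = ξ ⟨u, hu⟩ := by
    intro u hu hu'
    have := congrFun hfix ⟨u, hu⟩
    rw [Cfsg.Agent.Helper5.conjFun_apply] at this
    exact Units.ext this
  obtain ⟨u₀, hu₀, k, hk8, rfl⟩ := bt_exists_mul S b
  have hk : ¬ 8 ∣ k := by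
    intro h
    apply hb
    exact S.U.mul_mem hu₀ ((bt_pow_mem_U S k).mpr h)
  -- t^k fixes ξ
  have htk : ∀ (u : Bt) (hu : u ∈ S.U) (hu' : S.t ^ k * u * (S.t ^ k)⁻¹ ∈ S.U),
      ξ ⟨S.t ^ k * u * (S.t ^ k)⁻¹, hu'⟩ = ξ ⟨u, hu⟩ := by
    intro u hu hu'
    have h1 : u₀ * S.t ^ k * u * (u₀ * S.t ^ k)⁻¹ ∈ S.U := S.U_normal.conj_mem u hu _
    have h2 := hbfix u hu h1
    rw [← h2]
    have h3 : (⟨u₀ * S.t ^ k * u * (u₀ * S.t ^ k)⁻¹, h1⟩ : S.U) =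
        ⟨u₀, hu₀⟩ * ⟨S.t ^ k * u * (S.t ^ k)⁻¹, hu'⟩ * (⟨u₀, hu₀⟩ : S.U)⁻¹ := by
      apply Subtype.ext
      push_cast
      group
    rw [h3, map_mul, map_mul, map_inv, mul_comm, inv_mul_cancel_left]
  obtain ⟨m, hm⟩ := u33bt_inert_pow S k hk
  have ht4 := u33bt_inert_fix_pow S ξ (S.t ^ k) htk m
  rw [hm] at ht4
  -- ξ u ^ 2 = 1
  apply MonoidHom.ext
  intro u
  rw [MonoidHom.one_apply]
  have hconj : S.t ^ 4 * (u : Bt) * (S.t ^ 4)⁻¹ ∈ S.U := S.U_normal.conj_mem u u.2 _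
  have h1 := ht4 u u.2 hconj
  have h2 := S.t4_inv u u.2
  have h3 : ξ (⟨S.t ^ 4 * (u : Bt) * (S.t ^ 4)⁻¹, hconj⟩ * u) = 1 := by
    apply hZ
    exact h2
  rw [map_mul, h1] at h3
  have hu27 : ξ u ^ 27 = 1 := by
    rw [← map_pow]
    have : u ^ 27 = 1 := by
      have := pow_card_eq_one' (G := S.U) (x := u)
      rwa [S.card_U] at this
    rw [this, map_one]
  have hsq : ξ u ^ 2 = 1 := by rw [pow_two]; exact h3
  have : ξ u = ξ u ^ 27 * ((ξ u ^ 2) ^ 13)⁻¹ := by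
    rw [← pow_mul]
    have : ξ u ^ 27 = ξ u ^ (2 * 13) * ξ u := by rw [← pow_succ]
    rw [this]; group
  rw [this, hu27, hsq]; simp

end Cfsg.Agent.U33
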