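import Mathlib
import Cfsg.Agent.Lib.U33.U33Defs
import Cfsg.Agent.Lib.U33.U33BTGRP
import Cfsg.Agent.Lib.Helper24.CharQuotient
import Cfsg.Agent.Lib.Helper24.CharLinear

/-! S3670 sub-piece U33-BT-KER (module BT, sub-farmed by helper22): the irreducible characters of `B`
with `Z` in the kernel are the eight `lamk lam k` and `psi8` (sum of squares `8 + 64 = 72 = |B/Z|`).
See plans/S3670_BT_plan.md.  (Proved by helper18.) -/

set_option autoImplicit false

namespace Cfsg.Agent.U33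

universe u

variable {Bt : Type u} [Group Bt] [Finite Bt]

/-- `lamk lam k` is the complex function of the homomorphism `lam ^ k` -/
theorem u33bt_ker_lamk_eq (lam : Bt →* ℂˣ) (k : ℕ) :
    lamk lam k = fun b => (((lam ^ k) b : ℂˣ) : ℂ) := by
  funext b
  simp [lamk]

theorem u33bt_ker_lamk_irr (lam : Bt →* ℂˣ) (k : ℕ) : IsIrrCharacter Bt (lamk lam k) := by
  rw [u33bt_ker_lamk_eq]
  exact Cfsg.Agent.Helper24.isIrrCharacter_of_monoidHom (lam ^ k)

/-- `lamk lam k` (`k < 8`) are irreducible (`Helper24.isIrrCharacter_of_monoidHom (lam ^ k)`), pairwise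
distinct (values `ζ^k` at `t`, `ζ` primitive 8th root), of degree `1`, trivial on `Z ≤ U`; `psi8` is
irreducible of degree `8 ≠ 1` with `Z` in its kernel.  By `Helper24.sum_charDegree_sq_of_le_ker` (with
`N = Z`, normal by `bt_Z_normal`) the squares of the degrees of ALL irreducible characters with `Z` in the
kernel add up to `|B ⧸ Z| = 72 = 8 * 1 + 64`; a further such character `ψ` (degree `≥ 1`) would make the
sum `> 72`. -/
theorem bt_tricho_ker (S : BSetup Bt) (lam : Bt →* ℂˣ) (hU : ∀ u ∈ S.U, lam u = 1)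
    (hprim : IsPrimitiveRoot ((lam S.t : ℂˣ) : ℂ) 8)
    (psi8 : Bt → ℂ) (hirr : IsIrrCharacter Bt psi8) (h1 : psi8 1 = 8)
    (hZ8 : ∀ z ∈ S.Z, psi8 z = 8)
    (ψ : Bt → ℂ) (hψ : IsIrrCharacter Bt ψ) (hker : ∀ z ∈ S.Z, ψ z = ψ 1) :
    (∃ k : ℕ, k < 8 ∧ ψ = lamk lam k) ∨ ψ = psi8 := by
  classical
  haveI := bt_Z_normal S
  haveI : Fintype Bt := Fintype.ofFinite Bt
  letI : Fintype (IrrCharacter Bt) := Cfsg.Agent.Helper24.irrFintype
  by_contra hcon
  push Not at hcon
  obtain ⟨hne1, hne2⟩ := hcon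
  -- the type of irreducible characters with `Z` in the kernel
  let T := {χ : IrrCharacter Bt // ∀ n ∈ S.Z, (χ : Bt → ℂ) n = (χ : Bt → ℂ) 1}
  have hlamZ : ∀ k : ℕ, ∀ n ∈ S.Z, lamk lam k n = lamk lam k 1 := by
    intro k n hn
    simp only [lamk, hU n (S.Z_le_U hn), map_one]
  let L : Fin 8 → T := fun k => ⟨⟨lamk lam k, u33bt_ker_lamk_irr lam k⟩, hlamZ k⟩
  let P : T := ⟨⟨psi8, hirr⟩, fun n hn => by
    show psi8 n = psi8 1
    rw [hZ8 n hn, h1]⟩
  let Ψ : T := ⟨⟨ψ, hψ⟩, hker⟩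
  have hLinj : Function.Injective L := by
    intro a b hab
    have h2 : lamk lam a = lamk lam b := congrArg (fun x : T => ((x.1 : IrrCharacter Bt) : Bt → ℂ)) hab
    have h3 := congrFun h2 S.t
    simp only [lamk] at h3
    have := hprim.pow_inj a.2 b.2 h3
    exact Fin.ext this
  have hdegL : ∀ k : Fin 8, charDegree (((L k).1 : IrrCharacter Bt) : Bt → ℂ) = 1 := by
    intro k
    apply Cfsg.Agent.Helper24.charDegree_natCast 1
    simp [L, lamk]
  have hdegP : charDegree ((P.1 : IrrCharacter Bt) : Bt → ℂ) = 8 := by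
    apply Cfsg.Agent.Helper24.charDegree_natCast 8
    simpa [P] using h1
  have hdegΨ : 1 ≤ charDegree ((Ψ.1 : IrrCharacter Bt) : Bt → ℂ) :=
    Cfsg.Agent.Helper24.charDegree_pos hψ
  have hPL : P ∉ Finset.univ.image L := by
    intro h
    obtain ⟨k, -, hk⟩ := Finset.mem_image.mp h
    have := hdegL k
    rw [hk, hdegP] at this
    norm_num at this
  have hΨ : Ψ ∉ insert P (Finset.univ.image L) := by
    intro h
    rcases Finset.mem_insert.mp h with h | h
    · apply hne2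
      exact congrArg (fun x : T => ((x.1 : IrrCharacter Bt) : Bt → ℂ)) h
    · obtain ⟨k, -, hk⟩ := Finset.mem_image.mp h
      apply hne1 k k.2
      exact (congrArg (fun x : T => ((x.1 : IrrCharacter Bt) : Bt → ℂ)) hk).symm
  have htotal := Cfsg.Agent.Helper24.sum_charDegree_sq_of_le_ker (G := Bt) S.Z
  have hquot : Nat.card (Bt ⧸ S.Z) = 72 := by
    have := Subgroup.card_eq_card_quotient_mul_card_subgroup S.Z
    rw [S.card_B, S.card_Z] at this
    omega
  rw [hquot] at htotal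
  have hsub : ∑ χ ∈ insert Ψ (insert P (Finset.univ.image L)),
      charDegree ((χ.1 : IrrCharacter Bt) : Bt → ℂ) ^ 2 ≤
      ∑ χ : T, charDegree ((χ.1 : IrrCharacter Bt) : Bt → ℂ) ^ 2 :=
    Finset.sum_le_sum_of_subset (Finset.subset_univ _)
  rw [htotal, Finset.sum_insert hΨ, Finset.sum_insert hPL, Finset.sum_image (fun a _ b _ h => hLinj h),
    hdegP] at hsub
  simp only [hdegL, one_pow, Finset.sum_const, Finset.card_univ, Fintype.card_fin, smul_eq_mul,
    mul_one] at hsub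
  have : 1 ≤ charDegree ((Ψ.1 : IrrCharacter Bt) : Bt → ℂ) ^ 2 := Nat.one_le_pow _ _ hdegΨ
  omega

end Cfsg.Agent.U33
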