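import Mathlib
import Cfsg.Agent.Lib.U33.U33Defs
import Cfsg.Agent.Lib.U33.U33BTGRP

/-! S3670 sub-piece U33-BT-LAM (module BT, sub-farmed by helper22): a linear character of `B`,
trivial on `U`, whose value at `t` is a primitive 8th root of unity.  See plans/S3670_BT_plan.md. -/

set_option autoImplicit false
set_option linter.unusedSectionVars false
set_option linter.style.haveILetI false

namespace Cfsg.Agent.U33

universe u

variable {Bt : Type u} [Group Bt] [Finite Bt]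

theorem u33bt_lam_prim (z : ℂˣ) (h8 : z ^ 8 = 1) (h4 : z ^ 4 ≠ 1) :
    IsPrimitiveRoot ((z : ℂˣ) : ℂ) 8 := by
  have ho : orderOf z = 8 := by
    have hd : orderOf z ∣ 2 ^ 3 := orderOf_dvd_of_pow_eq_one (by simpa using h8)
    obtain ⟨k, hk, hk2⟩ := (Nat.dvd_prime_pow Nat.prime_two).mp hd
    have hk3 : k = 3 := by
      by_contra hne
      have hk' : k ≤ 2 := by omega
      apply h4
      apply orderOf_dvd_iff_pow_eq_one.mp
      rw [hk2]
      exact pow_dvd_pow 2 hk'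
    rw [hk2, hk3]; norm_num
  have h1 : IsPrimitiveRoot z 8 := ho ▸ IsPrimitiveRoot.orderOf z
  exact IsPrimitiveRoot.coe_units_iff.mpr h1

theorem bt_exists_lam (S : BSetup Bt) :
    ∃ lam : Bt →* ℂˣ, (∀ u ∈ S.U, lam u = 1) ∧ IsPrimitiveRoot ((lam S.t : ℂˣ) : ℂ) 8 := by
  haveI := S.U_normal
  let tb : Bt ⧸ S.U := QuotientGroup.mk S.t
  have hpow : ∀ j : ℕ, tb ^ j = 1 ↔ 8 ∣ j := by
    intro j
    rw [← bt_pow_mem_U S j]
    change ((S.t ^ j : Bt) : Bt ⧸ S.U) = 1 ↔ _
    rw [QuotientGroup.eq_one_iff]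
  have hcard : Nat.card (Bt ⧸ S.U) = 8 := by
    have h := Subgroup.card_eq_card_quotient_mul_card_subgroup S.U
    rw [S.card_B, S.card_U] at h
    omega
  have hord : orderOf tb = 8 := by
    apply Nat.dvd_antisymm
    · exact orderOf_dvd_of_pow_eq_one ((hpow 8).mpr dvd_rfl)
    · exact (hpow _).mp (pow_orderOf_eq_one tb)
  haveI : IsCyclic (Bt ⧸ S.U) := isCyclic_of_orderOf_eq_card tb (by rw [hord, hcard])
  letI : CommGroup (Bt ⧸ S.U) := IsCyclic.commGroup
  have hne : tb ^ 4 ≠ 1 := by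
    intro h
    have := (hpow 4).mp h
    omega
  obtain ⟨φ, hφ⟩ := CommGroup.exists_apply_ne_one_of_hasEnoughRootsOfUnity (Bt ⧸ S.U) ℂ hne
  refine ⟨φ.comp (QuotientGroup.mk' S.U), ?_, ?_⟩
  · intro u hu
    rw [MonoidHom.comp_apply, QuotientGroup.mk'_apply, (QuotientGroup.eq_one_iff u).mpr hu, map_one]
  · apply u33bt_lam_prim
    · rw [MonoidHom.comp_apply, QuotientGroup.mk'_apply, ← map_pow]
      change φ (tb ^ 8) = 1
      rw [(hpow 8).mpr dvd_rfl, map_one]
    · rw [MonoidHom.comp_apply, QuotientGroup.mk'_apply, ← map_pow]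
      exact hφ

end Cfsg.Agent.U33
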