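import Mathlib
import Cfsg.Agent.Lib.U33.U33Defs
import Cfsg.Agent.Lib.U33.U33BTGRP
import Cfsg.Agent.Lib.U33.U33BTINERT
import Cfsg.Agent.Lib.Helper5.Clifford
import Cfsg.Agent.Lib.Helper24.Cd2Ker
import Cfsg.Agent.Lib.Helper24.CharLinear
import Cfsg.Agent.Lib.Helper24.CharInduced

/-! S3670 sub-piece U33-BT-PSI (module BT, sub-farmed by helper22): `psi8 = Ind_U^B ξ` is irreducible of
degree `8`, vanishes off `U` and is `8` on `Z`.  See plans/S3670_BT_plan.md. -/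

set_option autoImplicit false
set_option linter.unusedSectionVars false
set_option linter.style.haveILetI false

namespace Cfsg.Agent.U33

universe u

variable {Bt : Type u} [Group Bt] [Finite Bt]

theorem u33bt_psi_index (S : BSetup Bt) : S.U.index = 8 := by
  have h := S.U.card_mul_index
  rw [S.card_U, S.card_B] at h
  omega

theorem bt_psi8 [Fintype Bt] (S : BSetup Bt) (ξ : S.U →* ℂˣ) (hξ : ξ ≠ 1)
    (hZ : ∀ z : S.U, (z : Bt) ∈ S.Z → ξ z = 1) :
    IsIrrCharacter Bt (indFun S.U (fun u : S.U => ((ξ u : ℂˣ) : ℂ))) ∧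
    indFun S.U (fun u : S.U => ((ξ u : ℂˣ) : ℂ)) 1 = 8 ∧
    (∀ b : Bt, b ∉ S.U → indFun S.U (fun u : S.U => ((ξ u : ℂˣ) : ℂ)) b = 0) ∧
    (∀ z ∈ S.Z, indFun S.U (fun u : S.U => ((ξ u : ℂˣ) : ℂ)) z = 8) := by
  haveI := S.U_normal
  haveI hZn := bt_Z_normal S
  refine ⟨?_, ?_, ?_, ?_⟩
  · exact Cfsg.Agent.Helper24.Cd2.isIrr_indFun_of_inertia S.U
      (Cfsg.Agent.Helper24.isIrrCharacter_of_monoidHom ξ)
      (fun g hg => bt_conj_xi_ne S ξ hξ hZ g hg)
  · rw [Cfsg.Agent.Helper24.indFun_one, u33bt_psi_index S, map_one]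
    norm_num
  · intro b hb
    exact Cfsg.Agent.Helper5.indFun_normal_of_not_mem S.U _ hb
  · intro z hz
    rw [Cfsg.Agent.Helper24.indFun_apply]
    have : ∀ x : Bt, extendByZero S.U (fun u : S.U => ((ξ u : ℂˣ) : ℂ)) (x⁻¹ * z * x) = 1 := by
      intro x
      have hmem : x⁻¹ * z * x ∈ S.Z := by
        have := hZn.conj_mem z hz x⁻¹
        simpa using this
      rw [Cfsg.Agent.Helper24.extendByZero_of_mem S.U _ (S.Z_le_U hmem)]
      rw [hZ ⟨_, S.Z_le_U hmem⟩ hmem]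
      rfl
    simp only [this, Finset.sum_const, Finset.card_univ, nsmul_eq_mul, mul_one]
    rw [← Nat.card_eq_fintype_card, S.card_B, S.card_U]
    norm_num

end Cfsg.Agent.U33
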