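import Mathlib
import Cfsg.Agent.Lib.U33.U33Defs
import Cfsg.Agent.Lib.U33.U33BTGRP
import Cfsg.Agent.Lib.Helper5.Clifford
import Cfsg.Agent.Lib.Helper24.Cd2Basic
import Cfsg.Agent.Lib.Helper24.CharIntegral
import Cfsg.Agent.Lib.Helper24.CharAlgebra

/-! S3670 sub-piece U33-BT-THREE (module BT, sub-farmed by helper22): an irreducible character of `B`
without `Z` in its kernel has degree divisible by `3`.  See plans/S3670_BT_plan.md. -/

set_option autoImplicit false

namespace Cfsg.Agent.U33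

universe u

variable {Bt : Type u} [Group Bt] [Finite Bt]

open Cfsg Cfsg.Agent.Helper24 Cfsg.Agent.Helper5

/-- a linear character of `U` is trivial on `Z` -/
theorem u33bt_three_lin (S : BSetup Bt) {θ : S.U → ℂ} (hθ : IsIrrCharacter S.U θ)
    (h1 : charDegree θ = 1) : ∀ z : S.U, (z : Bt) ∈ S.Z → θ z = 1 := by
  have hc := isCharacter_of_isIrrCharacter hθ
  have h11 : θ 1 = 1 := by
    rw [irr_one_eq_charDegree hθ, h1]; simp
  have hmul := char_mul_of_degree_one hc h11
  obtain ⟨u₁, hu₁, u₂, hu₂, hcZ, hc1⟩ := S.Z_comm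
  -- the commutator as an element of U
  let a : S.U := ⟨u₁, hu₁⟩
  let b : S.U := ⟨u₂, hu₂⟩
  let c : S.U := a * b * a⁻¹ * b⁻¹
  have hcval : (c : Bt) = u₁ * u₂ * u₁⁻¹ * u₂⁻¹ := rfl
  have hθc : θ c = 1 := by
    have ha : θ a * θ a⁻¹ = 1 := by rw [← hmul, mul_inv_cancel, h11]
    have hb : θ b * θ b⁻¹ = 1 := by rw [← hmul, mul_inv_cancel, h11]
    show θ (a * b * a⁻¹ * b⁻¹) = 1
    rw [hmul, hmul, hmul]
    calc θ a * θ b * θ a⁻¹ * θ b⁻¹ = (θ a * θ a⁻¹) * (θ b * θ b⁻¹) := by ring
      _ = 1 := by rw [ha, hb, one_mul]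
  -- Z is generated by c
  intro z hz
  have hZ3 : Nat.card S.Z = 3 := S.card_Z
  haveI : Fact (Nat.Prime 3) := ⟨by norm_num⟩
  let cz : S.Z := ⟨(c : Bt), by rw [hcval]; exact hcZ⟩
  have hcz1 : cz ≠ 1 := by
    intro h
    apply hc1
    have := congrArg Subtype.val h
    simpa [cz, hcval] using this
  have hgen : ∀ y : S.Z, y ∈ Subgroup.zpowers cz := by
    intro y
    have := zpowers_eq_top_of_prime_card (G := S.Z) (p := 3) hZ3 hcz1
    rw [this]
    exact Subgroup.mem_top y
  obtain ⟨n, hn⟩ := Subgroup.mem_zpowers_iff.mp (hgen ⟨(z : Bt), hz⟩)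
  have hzc : z = c ^ n := by
    apply Subtype.ext
    have := congrArg Subtype.val hn
    simp only [cz, Subgroup.coe_zpow] at this
    rw [Subgroup.coe_zpow]
    exact this.symm
  have hpow : ∀ m : ℕ, θ (c ^ m) = 1 := by
    intro m
    induction m with
    | zero => simpa using h11
    | succ k ih => rw [pow_succ, hmul, ih, hθc, one_mul]
  rw [hzc]
  rcases Int.eq_nat_or_neg n with ⟨m, rfl | rfl⟩
  · rw [zpow_natCast]; exact hpow m
  · rw [zpow_neg, zpow_natCast]
    have h2 : θ (c ^ m) * θ (c ^ m)⁻¹ = 1 := by rw [← hmul, mul_inv_cancel, h11]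
    rw [hpow m, one_mul] at h2
    exact h2

/-- Let `θ` be an irreducible constituent of `ψ|_U` (`U` normal).  `θ 1 ∣ ψ 1`
(`Helper24.degree_dvd_of_constituent`) and `θ 1 ∣ 27` (`Helper24.charDegree_dvd_card`).  If `θ 1 = 1` then
`θ` is a hom `U → ℂˣ`, trivial on the nontrivial commutator `c ∈ Z` of `S.Z_comm`, hence on `Z = ⟨c⟩`
(`|Z| = 3` prime); `Z` is normal in `B` (`bt_Z_normal`), so every `B`-conjugate of `θ` is trivial on `Z`;
by Clifford (`Helper5.clifford_conj`) all constituents of `ψ|_U` are conjugates of `θ`, so `ψ|_Z` is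
`ψ 1` times the trivial character, contradicting `hker`.  Hence `3 ∣ θ 1 ∣ ψ 1`. -/
theorem bt_three_dvd (S : BSetup Bt) (ψ : Bt → ℂ) (hψ : IsIrrCharacter Bt ψ)
    (hker : ¬ ∀ z ∈ S.Z, ψ z = ψ 1) : 3 ∣ charDegree ψ := by
  classical
  letI : Fintype Bt := Fintype.ofFinite Bt
  haveI : S.U.Normal := S.U_normal
  haveI hZn : S.Z.Normal := bt_Z_normal S
  letI : Fintype S.U := Fintype.ofFinite _
  letI : Fintype (IrrCharacter S.U) := irrFintype
  have hψc := isCharacter_of_isIrrCharacter hψ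
  set res : S.U → ℂ := fun u : S.U => ψ u with hresdef
  have hres : IsCharacter S.U res := isCharacter_restrict S.U hψc
  have h0 : res ≠ 0 := by
    intro h
    have h1 := congrFun h 1
    have h2 := irr_one_eq_charDegree hψ
    have h3 := charDegree_pos hψ
    simp only [hresdef, Pi.zero_apply, OneMemClass.coe_one] at h1
    rw [h1] at h2
    have : (charDegree ψ : ℂ) ≠ 0 := by exact_mod_cast h3.ne'
    exact this h2.symm
  obtain ⟨θ, hθ, hθc⟩ := exists_constituent hres h0
  have hdvd : charDegree θ ∣ charDegree ψ := Cfsg.Agent.Helper24.Cd2.degree_dvd_of_constituent S.U hψ hθ hθc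
  have h27 : charDegree θ ∣ 27 := by
    have := charDegree_dvd_card hθ
    rwa [S.card_U] at this
  by_cases h1 : charDegree θ = 1
  · exfalso
    apply hker
    have hθZ := u33bt_three_lin S hθ h1
    have hθ1 : θ 1 = 1 := by rw [irr_one_eq_charDegree hθ, h1]; simp
    -- every constituent takes the same value at z in Z and at 1
    have hkey : ∀ φ : IrrCharacter S.U, ∀ z : S.U, (z : Bt) ∈ S.Z →
        classInner res (φ : S.U → ℂ) * (φ : S.U → ℂ) z = classInner res (φ : S.U → ℂ) * (φ : S.U → ℂ) 1 := by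
      intro φ z hz
      by_cases hφ0 : classInner res (φ : S.U → ℂ) = 0
      · rw [hφ0, zero_mul, zero_mul]
      · obtain ⟨x, hx⟩ := clifford_conj S.U hψ hθ φ.2 hθc hφ0
        rw [← hx, conjFun_apply, conjFun_apply]
        rw [hθZ _ (hZn.conj_mem (z : Bt) hz x)]
        have : (⟨x * ((1 : S.U) : Bt) * x⁻¹, S.U_normal.conj_mem _ (1 : S.U).2 x⟩ : S.U) = 1 := by
          apply Subtype.ext
          simp
        rw [this, hθ1]
    obtain ⟨_, hdec⟩ := isCharacter_decomp hres
    intro z hz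
    have hzU : z ∈ S.U := S.Z_le_U hz
    have e1 : ψ z = res ⟨z, hzU⟩ := rfl
    have e2 : ψ 1 = res 1 := rfl
    rw [e1, e2]
    conv_lhs => rw [hdec]
    conv_rhs => rw [hdec]
    rw [Finset.sum_apply, Finset.sum_apply]
    refine Finset.sum_congr rfl fun φ _ => ?_
    rw [Pi.smul_apply, Pi.smul_apply, smul_eq_mul, smul_eq_mul]
    exact hkey φ ⟨z, hzU⟩ hz
  · have hmem : charDegree θ ∈ Nat.divisors 27 := Nat.mem_divisors.mpr ⟨h27, by norm_num⟩
    have hdiv : Nat.divisors 27 = {1, 3, 9, 27} := by decide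
    rw [hdiv] at hmem
    simp only [Finset.mem_insert, Finset.mem_singleton] at hmem
    have h3 : 3 ∣ charDegree θ := by
      rcases hmem with h | h | h | h
      · exact absurd h h1
      · rw [h]
      · rw [h]; norm_num
      · rw [h]; norm_num
    exact h3.trans hdvd

end Cfsg.Agent.U33
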