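import Mathlib
import Cfsg.Agent.Lib.U33.U33Defs
import Cfsg.Agent.Lib.U33.U33BTGRP
import Cfsg.Agent.Lib.Helper5.Clifford
import Cfsg.Agent.Lib.Helper24.CharLinear
import Cfsg.Agent.Lib.Helper24.CharComplete

/-! S3670 sub-piece U33-BT-TWO (module BT, sub-farmed by helper22): an irreducible character of `B`
without `Z` in its kernel has even degree.  See plans/S3670_BT_plan.md.  (Proved by helper18.) -/

set_option autoImplicit false

namespace Cfsg.Agent.U33

universe u

variable {Bt : Type u} [Group Bt] [Finite Bt]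

open scoped ComplexConjugate in
/-- the sum of the values of `ψ` over `Z` vanishes when `Z` is not in the kernel (Clifford) -/
theorem u33bt_two_sum (S : BSetup Bt) (ψ : Bt → ℂ) (hψ : IsIrrCharacter Bt ψ)
    (hker : ¬ ∀ z ∈ S.Z, ψ z = ψ 1) [Fintype S.Z] : ∑ z : S.Z, ψ z = 0 := by
  classical
  haveI : Fintype Bt := Fintype.ofFinite Bt
  haveI := bt_Z_normal S
  by_contra hne
  have hirr1 : IsIrrCharacter S.Z (fun _ => (1 : ℂ)) := Cfsg.Agent.Helper24.isIrrCharacter_one
  have hinv : ∀ g : Bt, Cfsg.Agent.Helper5.conjFun S.Z g (fun _ => (1 : ℂ)) = fun _ => (1 : ℂ) := by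
    intro g
    funext n
    rw [Cfsg.Agent.Helper5.conjFun_apply]
  have hcon : classInner (fun n : S.Z => ψ n) (fun _ => (1 : ℂ)) ≠ 0 := by
    unfold classInner
    simp only [map_one, mul_one]
    apply mul_ne_zero
    · apply inv_ne_zero
      have : Nat.card S.Z ≠ 0 := by rw [S.card_Z]; norm_num
      exact_mod_cast this
    · exact hne
  obtain ⟨e, -, -, hres⟩ :=
    Cfsg.Agent.Helper5.restrict_eq_smul_of_invariant S.Z hψ hirr1 hinv hcon
  apply hker
  intro z hz
  have h1 := congrFun hres ⟨z, hz⟩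
  have h2 := congrFun hres ⟨1, S.Z.one_mem⟩
  simp only [Pi.smul_apply, smul_eq_mul, mul_one] at h1 h2
  rw [h1, h2]

theorem bt_two_dvd (S : BSetup Bt) (ψ : Bt → ℂ) (hψ : IsIrrCharacter Bt ψ)
    (hker : ¬ ∀ z ∈ S.Z, ψ z = ψ 1) : 2 ∣ charDegree ψ := by
  classical
  haveI : Fintype S.Z := Fintype.ofFinite S.Z
  have hsum := u33bt_two_sum S ψ hψ hker
  have hcf := Cfsg.Agent.Helper24.isClassFunction_of_isIrrCharacter hψ
  -- a generator of `Z`
  have hcard : Fintype.card S.Z = 3 := by rw [← Nat.card_eq_fintype_card, S.card_Z]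
  obtain ⟨z, hz1⟩ : ∃ z : S.Z, z ≠ 1 := by
    by_contra hcon
    push Not at hcon
    have : Fintype.card S.Z ≤ 1 := Fintype.card_le_one_iff.mpr fun a b => by rw [hcon a, hcon b]
    omega
  have hz3 : z ^ 3 = 1 := by
    have := pow_card_eq_one (G := S.Z) (x := z)
    rwa [hcard] at this
  have hzinv1 : z⁻¹ ≠ 1 := fun h => hz1 (inv_eq_one.mp h)
  have hzz : z ≠ z⁻¹ := by
    intro h
    have h2 : z ^ 2 = 1 := by
      rw [pow_two]
      nth_rewrite 2 [h]
      exact mul_inv_cancel z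
    apply hz1
    calc z = z ^ 3 * (z ^ 2)⁻¹ := by group
      _ = 1 := by rw [hz3, h2]; simp
  have huniv : (Finset.univ : Finset S.Z) = {1, z, z⁻¹} := by
    symm
    apply Finset.eq_univ_of_card
    rw [hcard, Finset.card_insert_of_notMem, Finset.card_insert_of_notMem, Finset.card_singleton]
    · simpa using hzz
    · simp only [Finset.mem_insert, Finset.mem_singleton, not_or]
      exact ⟨fun h => hz1 h.symm, fun h => hzinv1 h.symm⟩
  rw [huniv, Finset.sum_insert, Finset.sum_insert, Finset.sum_singleton] at hsum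
  · -- `ψ z⁻¹ = ψ z` since `t` inverts `Z`
    have hinv : ψ ((z⁻¹ : S.Z) : Bt) = ψ (z : Bt) := by
      have h1 := S.t_inv_Z (z : Bt) z.2
      have h2 := hcf (z : Bt) S.t
      rw [h1] at h2
      simpa using h2
    rw [hinv] at hsum
    have h1 : ψ ((1 : S.Z) : Bt) = (charDegree ψ : ℂ) := by
      simpa using Cfsg.Agent.Helper24.irr_one_eq_charDegree hψ
    rw [h1] at hsum
    -- `ψ z` is an algebraic integer equal to `-(d/2)`
    have hint : IsIntegral ℤ (ψ (z : Bt)) :=
      Cfsg.Agent.Helper24.isIntegral_of_isCharacter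
        (Cfsg.Agent.Helper24.isCharacter_of_isIrrCharacter hψ) _
    have hval : ψ (z : Bt) = ((-(charDegree ψ : ℚ) / 2 : ℚ) : ℂ) := by
      push_cast
      linear_combination (1 / 2 : ℂ) * hsum
    rw [hval] at hint
    have hintQ : IsIntegral ℤ (-(charDegree ψ : ℚ) / 2 : ℚ) :=
      (isIntegral_algebraMap_iff (algebraMap ℚ ℂ).injective).mp hint
    obtain ⟨y, hy⟩ := IsIntegrallyClosed.isIntegral_iff.mp hintQ
    have hy' : ((charDegree ψ : ℤ) : ℚ) = ((-2 * y : ℤ) : ℚ) := by
      have : (algebraMap ℤ ℚ) y = (y : ℚ) := rfl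
      rw [this] at hy
      push_cast
      linarith
    have hz : (charDegree ψ : ℤ) = -2 * y := by exact_mod_cast hy'
    have : (2 : ℤ) ∣ (charDegree ψ : ℤ) := ⟨-y, by rw [hz]; ring⟩
    exact_mod_cast this
  · simpa using hzz
  · simp only [Finset.mem_insert, Finset.mem_singleton, not_or]
    exact ⟨fun h => hz1 h.symm, fun h => hzinv1 h.symm⟩

end Cfsg.Agent.U33
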