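import Mathlib
import Cfsg.Agent.Lib.U33.U33Defs

/-! S3670 sub-piece U33-BT-XI (module BT, sub-farmed by helper22): a nontrivial linear character of
`U` that is trivial on `Z` (`U ⧸ Z` has order `9`, hence is abelian and nontrivial).
See plans/S3670_BT_plan.md. -/

set_option autoImplicit false
set_option linter.unusedSectionVars false
set_option linter.style.haveILetI false

namespace Cfsg.Agent.U33

universe u

variable {Bt : Type u} [Group Bt] [Finite Bt]

theorem bt_exists_xi (S : BSetup Bt) :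
    ∃ ξ : S.U →* ℂˣ, ξ ≠ 1 ∧ ∀ z : S.U, (z : Bt) ∈ S.Z → ξ z = 1 := by
  haveI : Fact (Nat.Prime 3) := ⟨by norm_num⟩
  let N : Subgroup S.U := S.Z.subgroupOf S.U
  haveI hN : N.Normal := by
    constructor
    intro z hz u
    rw [Subgroup.mem_subgroupOf] at hz ⊢
    have h := S.Z_central _ hz u u.2
    have : ((u * z * u⁻¹ : S.U) : Bt) = (z : Bt) := by
      push_cast
      rw [← h]; group
    rw [this]; exact hz
  have hcardN : Nat.card N = 3 := by
    rw [← S.card_Z]
    exact Nat.card_congr (Subgroup.subgroupOfEquivOfLe S.Z_le_U).toEquiv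
  have hcard : Nat.card (S.U ⧸ N) = 3 ^ 2 := by
    have h := Subgroup.card_eq_card_quotient_mul_card_subgroup N
    rw [S.card_U, hcardN] at h
    omega
  letI : CommGroup (S.U ⧸ N) := IsPGroup.commGroupOfCardEqPrimeSq hcard
  haveI : Nontrivial (S.U ⧸ N) := by
    apply (Finite.one_lt_card_iff_nontrivial).mp
    rw [hcard]; norm_num
  obtain ⟨a, ha⟩ := exists_ne (1 : S.U ⧸ N)
  obtain ⟨φ, hφ⟩ := CommGroup.exists_apply_ne_one_of_hasEnoughRootsOfUnity (S.U ⧸ N) ℂ ha
  refine ⟨φ.comp (QuotientGroup.mk' N), ?_, ?_⟩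
  · intro h
    apply hφ
    obtain ⟨u, rfl⟩ := QuotientGroup.mk_surjective a
    have := congrArg (fun f : S.U →* ℂˣ => f u) h
    simpa using this
  · intro z hz
    rw [MonoidHom.comp_apply, QuotientGroup.mk'_apply]
    have : (QuotientGroup.mk z : S.U ⧸ N) = 1 := by
      rw [QuotientGroup.eq_one_iff, Subgroup.mem_subgroupOf]
      exact hz
    rw [this, map_one]

end Cfsg.Agent.U33
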