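import Mathlib
import Cfsg.Agent.Lib.U33.U33Defs
import Cfsg.Agent.Lib.U33.U33BTGRP
import Cfsg.Agent.Lib.U33.U33BTLAM
import Cfsg.Agent.Lib.U33.U33BTXI
import Cfsg.Agent.Lib.U33.U33BTINERT
import Cfsg.Agent.Lib.U33.U33BTPSI
import Cfsg.Agent.Lib.U33.U33BTKER
import Cfsg.Agent.Lib.U33.U33BTTWO
import Cfsg.Agent.Lib.U33.U33BTTHREE

/-! S3670 module U33-BT: the character theory of `B = 3^{1+2} : 8` (see plans/S3670_plan.md, section BT).
Assembly (helper22) of the sub-pieces `U33BT{GRP,LAM,XI,INERT,PSI,KER,TWO,THREE}.lean`. -/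

set_option autoImplicit false

namespace Cfsg.Agent.U33

universe u

theorem bchars_of_bsetup {Bt : Type u} [Group Bt] [Finite Bt] (S : BSetup Bt) :
    Nonempty (BChars Bt S.t) := by
  classical
  letI : Fintype Bt := Fintype.ofFinite Bt
  obtain ⟨lam, hlamU, hprim⟩ := bt_exists_lam S
  obtain ⟨ξ, hξ, hξZ⟩ := bt_exists_xi S
  obtain ⟨hirr, h1, hoff, hZ8⟩ := bt_psi8 S ξ hξ hξZ
  refine ⟨{ lam := lam
            psi8 := indFun S.U (fun u : S.U => ((ξ u : ℂˣ) : ℂ))
            zeta_prim := hprim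
            psi8_irr := hirr
            psi8_one := h1
            psi8_t := ?_
            tricho := ?_ }⟩
  · intro j hj
    apply hoff
    intro hmem
    exact hj ((bt_pow_mem_U S j).mp hmem)
  · intro ψ hψ
    by_cases hker : ∀ z ∈ S.Z, ψ z = ψ 1
    · rcases bt_tricho_ker S lam hlamU hprim _ hirr h1 hZ8 ψ hψ hker with h | h
      · exact Or.inl h
      · exact Or.inr (Or.inl h)
    · right; right
      have h2 := bt_two_dvd S ψ hψ hker
      have h3 := bt_three_dvd S ψ hψ hker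
      have : (2 * 3) ∣ charDegree ψ :=
        Nat.Coprime.mul_dvd_of_dvd_of_dvd (by norm_num) h2 h3
      simpa using this

end Cfsg.Agent.U33
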