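import Mathlib
import Cfsg.Agent.Lib.U33.U33Defs
import Cfsg.Agent.Lib.Helper15.G2U3c
import Cfsg.Agent.Lib.Helper15.SylGen2

/-! S3670 piece U33-CONC, data file (helper25): an explicit Sylow `3`-subgroup `U0` (27 permutations),
an element `tP` of order `8` normalising it and the Weyl element `wP`, inside helper15's degree-63
model `RB` of `PSU₃(3)`.  Data produced by an external search; everything is re-checked by the kernel. -/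

set_option autoImplicit false

namespace Cfsg.Agent.U33.Conc

open Cfsg.Agent.Helper15.G2U3 Cfsg.Agent.Helper15.SylGen

/-- a function on `Fin 63` from its list of values. -/
def pfun (l : List ℕ) (x : Fin 63) : Fin 63 := Fin.ofNat 63 (l.getD x.val 0)

def pmL : List (List ℕ) := [[0, 1, 2, 3, 4, 5, 6, 7, 8, 9, 10, 11, 12, 13, 14, 15, 16, 17, 18, 19, 20, 21, 22, 23, 24, 25, 26, 27, 28, 29, 30, 31, 32, 33, 34, 35, 36, 37, 38, 39, 40, 41, 42, 43, 44, 45, 46, 47, 48, 49, 50, 51, 52, 53, 54, 55, 56, 57, 58, 59, 60, 61, 62],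
  [51, 27, 53, 12, 32, 37, 41, 42, 1, 5, 29, 18, 58, 25, 0, 57, 28, 26, 19, 11, 38, 59, 40, 48, 47, 33, 52, 8, 50, 60, 24, 7, 44, 13, 39, 6, 62, 9, 55, 46, 45, 35, 31, 36, 4, 22, 34, 30, 54, 2, 16, 14, 17, 49, 23, 20, 15, 56, 3, 61, 10, 21, 43],
  [40, 26, 59, 11, 5, 48, 62, 32, 41, 42, 38, 13, 28, 3, 22, 58, 57, 50, 56, 8, 9, 60, 24, 49, 14, 6, 36, 12, 27, 53, 51, 2, 46, 17, 23, 16, 1, 29, 39, 10, 47, 19, 20, 15, 21, 30, 7, 0, 4, 34, 33, 45, 18, 37, 55, 61, 52, 35, 43, 31, 44, 54, 25],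
  [14, 8, 49, 58, 44, 9, 35, 31, 27, 37, 60, 19, 3, 33, 51, 56, 50, 52, 11, 18, 55, 61, 45, 54, 30, 13, 17, 1, 16, 10, 47, 42, 4, 25, 46, 41, 43, 5, 20, 34, 22, 6, 7, 62, 32, 40, 39, 24, 23, 53, 28, 0, 26, 2, 48, 38, 57, 15, 12, 21, 29, 59, 36],
  [45, 12, 37, 28, 46, 29, 19, 20, 26, 48, 53, 56, 43, 6, 40, 35, 27, 36, 8, 13, 39, 31, 47, 4, 0, 17, 18, 41, 33, 44, 14, 32, 21, 3, 10, 62, 25, 42, 61, 7, 30, 16, 2, 1, 5, 24, 23, 51, 55, 59, 57, 22, 50, 34, 49, 9, 58, 52, 11, 54, 38, 60, 15],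
  [45, 52, 61, 18, 37, 54, 43, 44, 35, 31, 55, 25, 50, 12, 40, 3, 56, 16, 15, 1, 5, 10, 47, 2, 0, 41, 62, 58, 8, 49, 14, 53, 34, 26, 48, 28, 27, 60, 46, 29, 30, 11, 38, 57, 59, 24, 42, 51, 32, 39, 13, 22, 19, 9, 20, 21, 17, 6, 36, 7, 4, 23, 33],
  [47, 36, 31, 13, 48, 4, 25, 46, 19, 20, 39, 3, 27, 11, 24, 43, 35, 33, 52, 41, 42, 44, 14, 34, 22, 62, 1, 28, 12, 37, 45, 59, 7, 50, 49, 57, 26, 53, 10, 38, 0, 8, 9, 58, 60, 51, 32, 40, 5, 23, 17, 30, 56, 29, 61, 54, 18, 16, 15, 2, 21, 55, 6],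
  [22, 41, 34, 43, 21, 42, 16, 2, 12, 29, 44, 8, 11, 17, 45, 52, 33, 18, 13, 56, 61, 54, 30, 55, 51, 3, 50, 26, 57, 38, 0, 20, 5, 6, 7, 19, 15, 48, 9, 23, 24, 62, 32, 25, 46, 47, 10, 14, 49, 37, 27, 40, 36, 59, 4, 39, 35, 58, 28, 60, 53, 31, 1],
  [22, 58, 9, 50, 34, 60, 11, 38, 52, 54, 49, 15, 36, 41, 45, 6, 8, 62, 1, 25, 46, 7, 30, 32, 51, 26, 19, 35, 13, 4, 0, 44, 59, 12, 29, 43, 33, 31, 21, 42, 24, 28, 53, 27, 37, 47, 48, 14, 20, 61, 56, 40, 16, 39, 2, 5, 3, 17, 18, 23, 55, 10, 57],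
  [30, 28, 29, 27, 7, 53, 8, 9, 36, 4, 37, 52, 15, 62, 47, 16, 12, 1, 41, 3, 10, 2, 0, 5, 40, 50, 56, 19, 17, 21, 22, 46, 60, 11, 38, 25, 6, 20, 54, 32, 51, 57, 59, 26, 48, 14, 49, 45, 61, 31, 35, 24, 33, 23, 34, 42, 43, 18, 13, 55, 39, 44, 58],
  [22, 17, 21, 19, 9, 23, 36, 4, 6, 7, 20, 33, 16, 58, 45, 12, 15, 28, 57, 27, 37, 29, 30, 53, 51, 35, 43, 3, 1, 2, 0, 49, 39, 52, 54, 50, 8, 10, 34, 60, 24, 18, 55, 56, 61, 47, 31, 14, 44, 46, 25, 40, 11, 5, 38, 59, 26, 41, 62, 42, 32, 48, 13],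
  [30, 18, 54, 56, 29, 55, 15, 21, 16, 2, 61, 6, 33, 28, 47, 11, 52, 57, 58, 26, 48, 38, 0, 59, 40, 19, 25, 43, 41, 34, 22, 37, 23, 36, 4, 27, 12, 44, 7, 53, 51, 13, 39, 35, 31, 14, 20, 45, 46, 10, 3, 24, 8, 42, 9, 60, 50, 62, 1, 32, 5, 49, 17],
  [30, 62, 7, 25, 54, 32, 33, 34, 11, 38, 46, 12, 8, 18, 47, 36, 6, 13, 17, 35, 31, 4, 0, 39, 40, 43, 27, 50, 58, 9, 22, 61, 42, 16, 2, 56, 52, 49, 29, 55, 51, 1, 5, 3, 10, 14, 44, 45, 37, 48, 26, 24, 15, 60, 21, 23, 19, 28, 57, 53, 59, 20, 41],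
  [40, 35, 39, 36, 59, 31, 28, 53, 58, 60, 4, 1, 18, 26, 22, 17, 13, 19, 25, 15, 21, 23, 24, 20, 14, 12, 16, 52, 56, 55, 51, 38, 37, 41, 42, 11, 57, 54, 5, 48, 47, 43, 44, 33, 34, 30, 29, 0, 2, 9, 8, 45, 62, 61, 32, 46, 6, 3, 50, 10, 49, 7, 27],
  [24, 19, 23, 15, 60, 20, 57, 59, 28, 53, 21, 41, 13, 50, 30, 18, 17, 56, 3, 52, 54, 55, 51, 61, 45, 11, 33, 36, 35, 39, 40, 9, 48, 62, 32, 8, 58, 4, 42, 49, 14, 25, 46, 6, 7, 0, 38, 22, 34, 29, 12, 47, 1, 31, 5, 10, 16, 43, 27, 44, 37, 2, 26],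
  [40, 3, 5, 16, 39, 10, 18, 55, 17, 23, 2, 57, 62, 35, 22, 41, 1, 43, 27, 33, 34, 42, 24, 44, 14, 52, 11, 6, 25, 32, 51, 4, 61, 58, 60, 36, 13, 7, 59, 31, 47, 50, 49, 8, 9, 30, 54, 0, 38, 21, 15, 45, 28, 46, 53, 37, 12, 26, 19, 48, 20, 29, 56],
  [24, 43, 42, 33, 23, 44, 13, 39, 18, 55, 34, 58, 1, 19, 30, 62, 41, 25, 26, 6, 7, 32, 51, 46, 45, 36, 8, 16, 3, 5, 40, 21, 31, 28, 53, 15, 17, 2, 60, 20, 14, 27, 37, 12, 29, 0, 4, 22, 9, 54, 52, 47, 57, 10, 59, 48, 11, 50, 56, 49, 61, 38, 35],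
  [24, 50, 60, 8, 42, 49, 1, 5, 62, 32, 9, 17, 57, 43, 30, 28, 58, 27, 35, 12, 29, 53, 51, 37, 45, 16, 15, 11, 26, 59, 40, 34, 10, 18, 55, 33, 41, 38, 23, 44, 14, 56, 61, 52, 54, 0, 2, 22, 21, 7, 6, 47, 13, 48, 39, 31, 36, 19, 25, 20, 46, 4, 3],
  [51, 56, 55, 52, 53, 61, 58, 60, 57, 59, 54, 62, 17, 27, 0, 13, 18, 35, 43, 36, 4, 39, 40, 31, 47, 8, 6, 15, 19, 23, 24, 29, 49, 1, 5, 12, 28, 21, 32, 37, 45, 3, 10, 16, 2, 22, 9, 30, 7, 38, 11, 14, 41, 20, 42, 44, 33, 25, 26, 46, 48, 34, 50],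
  [51, 25, 32, 6, 55, 46, 17, 23, 13, 39, 7, 28, 41, 56, 0, 1, 62, 3, 50, 16, 2, 5, 40, 10, 47, 15, 12, 33, 43, 42, 24, 54, 20, 57, 59, 52, 18, 34, 53, 61, 45, 26, 48, 11, 38, 22, 21, 30, 29, 4, 36, 14, 58, 44, 60, 49, 8, 27, 35, 37, 31, 9, 19],
  [45, 6, 46, 62, 61, 7, 50, 49, 3, 10, 32, 27, 19, 52, 40, 26, 25, 11, 33, 57, 59, 48, 47, 38, 0, 58, 28, 17, 15, 20, 14, 55, 9, 35, 31, 18, 56, 23, 37, 54, 30, 36, 4, 13, 39, 24, 60, 51, 53, 5, 1, 22, 43, 21, 44, 34, 41, 12, 16, 29, 2, 42, 8],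
  [47, 16, 10, 1, 31, 2, 27, 37, 43, 44, 5, 26, 56, 36, 24, 50, 3, 8, 6, 58, 60, 49, 14, 9, 22, 28, 57, 18, 52, 61, 45, 39, 29, 19, 20, 13, 35, 55, 48, 4, 0, 15, 21, 17, 23, 51, 53, 40, 59, 42, 41, 30, 25, 54, 46, 7, 62, 11, 33, 38, 34, 32, 12],
  [47, 11, 48, 57, 10, 38, 56, 61, 50, 49, 59, 35, 25, 16, 24, 19, 26, 15, 12, 17, 23, 20, 14, 21, 22, 18, 13, 62, 6, 46, 45, 5, 54, 43, 44, 1, 3, 32, 31, 2, 0, 33, 34, 41, 42, 51, 55, 40, 39, 60, 58, 30, 27, 7, 37, 29, 28, 36, 8, 4, 9, 53, 52],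
  [14, 15, 20, 17, 49, 21, 3, 10, 56, 61, 23, 43, 26, 8, 51, 25, 19, 6, 36, 62, 32, 46, 45, 7, 30, 1, 41, 57, 11, 48, 47, 60, 2, 27, 37, 58, 50, 59, 44, 9, 22, 12, 29, 28, 53, 40, 5, 24, 42, 55, 18, 0, 35, 38, 31, 4, 13, 33, 52, 34, 54, 39, 16],
  [14, 33, 44, 41, 20, 34, 26, 48, 25, 46, 42, 50, 35, 15, 51, 27, 43, 12, 16, 28, 53, 37, 45, 29, 30, 57, 58, 13, 36, 31, 47, 23, 38, 56, 61, 17, 19, 39, 49, 21, 22, 52, 54, 18, 55, 40, 59, 24, 60, 32, 62, 0, 3, 4, 10, 2, 1, 8, 6, 9, 7, 5, 11],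
  [0, 57, 38, 26, 2, 59, 12, 29, 15, 21, 48, 36, 52, 1, 14, 33, 11, 41, 62, 43, 44, 34, 22, 42, 24, 27, 35, 56, 18, 54, 30, 10, 53, 8, 9, 3, 16, 61, 4, 5, 40, 58, 60, 50, 49, 45, 37, 47, 31, 20, 19, 51, 6, 55, 7, 32, 25, 13, 17, 39, 23, 46, 28],
  [0, 13, 4, 35, 38, 39, 52, 54, 33, 34, 31, 16, 6, 57, 14, 8, 36, 58, 28, 50, 49, 9, 22, 60, 24, 56, 3, 25, 62, 7, 30, 48, 55, 15, 21, 26, 11, 46, 2, 59, 40, 17, 23, 19, 20, 45, 61, 47, 10, 44, 43, 51, 12, 32, 29, 53, 27, 1, 41, 5, 42, 37, 18]]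

def ivL : List ℕ := [0, 3, 6, 1, 16, 14, 2, 12, 11, 10, 9, 8, 7, 22, 5, 21, 4, 20, 24, 23, 17, 15, 13, 19, 18, 26, 25]

def tblL : List (List ℕ) := [[1, 3, 5, 0, 8, 10, 12, 13, 15, 17, 2, 14, 16, 20, 22, 4, 6, 21, 23, 24, 7, 9, 11, 25, 26, 18, 19],
  [2, 4, 6, 7, 9, 11, 0, 14, 16, 1, 17, 18, 19, 21, 3, 22, 23, 24, 5, 20, 12, 25, 26, 8, 10, 13, 15]]

def parKL : List ℕ := [0, 0, 1, 0, 1, 0, 1, 1, 0, 1, 0, 1, 0, 0, 1, 0, 1, 0, 1, 1, 0, 1, 0, 1, 1, 1, 1]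

def parAL : List ℕ := [0, 0, 0, 1, 1, 2, 2, 3, 4, 4, 5, 5, 6, 7, 7, 8, 8, 9, 11, 12, 13, 13, 14, 16, 17, 21, 22]

def tL : List ℕ := [40, 37, 1, 9, 57, 27, 7, 6, 44, 43, 8, 39, 54, 61, 51, 20, 5, 4, 42, 53, 28, 19, 14, 36, 0, 10, 34, 31, 60, 52, 30, 15, 17, 49, 50, 21, 59, 35, 13, 56, 45, 38, 11, 32, 62, 47, 3, 22, 33, 18, 55, 24, 29, 58, 12, 41, 48, 46, 2, 25, 16, 26, 23]

def tiL : List ℕ := [24, 2, 58, 46, 17, 16, 7, 6, 10, 3, 25, 42, 54, 38, 22, 31, 60, 32, 49, 21, 15, 35, 47, 62, 51, 59, 61, 5, 20, 52, 30, 27, 43, 48, 26, 37, 23, 1, 41, 11, 0, 55, 18, 9, 8, 40, 57, 45, 56, 33, 34, 14, 29, 19, 12, 50, 39, 4, 53, 36, 28, 13, 44]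

def wL : List ℕ := [57, 38, 26, 0, 40, 49, 7, 6, 44, 14, 36, 28, 52, 21, 46, 33, 11, 22, 15, 34, 39, 41, 43, 8, 9, 10, 53, 56, 18, 54, 30, 42, 24, 27, 35, 61, 59, 50, 58, 31, 32, 37, 5, 45, 25, 3, 47, 4, 20, 60, 2, 17, 12, 13, 29, 19, 16, 51, 55, 62, 48, 1, 23]

def wiL : List ℕ := [3, 61, 50, 45, 47, 42, 7, 6, 23, 24, 25, 16, 52, 53, 9, 18, 56, 51, 28, 55, 48, 13, 17, 62, 32, 44, 2, 33, 11, 54, 30, 39, 40, 15, 19, 34, 10, 41, 1, 20, 4, 21, 31, 22, 8, 43, 14, 46, 60, 5, 37, 57, 12, 26, 29, 58, 27, 0, 38, 36, 49, 35, 59]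

def ctL : List ℕ := [0, 8, 19, 11, 13, 2, 23, 17, 16, 5, 14, 4, 20, 18, 6, 1, 22, 21, 7, 10, 15, 3, 24, 9, 12, 26, 25]

def eL : List ℕ := [0, 2, 0, 1, 1, 0, 0, 2, 1, 0, 0, 2, 1, 2, 0, 1, 2, 1, 1, 0, 2, 2, 1, 0, 2, 2, 1]

def fL : List ℕ := [1, 0, 0, 0, 0, 0, 0, 0, 0, 0, 0, 0, 0, 0, 1, 0, 0, 0, 0, 0, 0, 0, 1, 0, 1, 0, 0, 0, 0, 0, 1, 0, 0, 0, 0, 0, 0, 0, 0, 0, 1, 0, 0, 0, 0, 1, 0, 1, 0, 0, 0, 1, 0, 0, 0, 0, 0, 0, 0, 0, 0, 0, 0]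

def witL : List ℕ := [0, 0, 0, 0, 0, 0, 0, 0, 14, 0, 0, 0, 0, 5, 7, 0, 0, 0, 0, 0, 0, 0, 0, 0, 0, 0, 0]

def wordU (k : Fin 2) : List Bool := if k.val = 0 then [false, false, true, true, false, true, true] else [false, true, true, false, true, false, true, true, false, false, true, true]

def wordT : List Bool := [false, true, true, false, false, true, false, false, true, false]

def wordW : List Bool := [true, false, false, true, false]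

def iv (a : Fin 27) : Fin 27 := Fin.ofNat 27 (ivL.getD a.val 0)

def tbl (k : Fin 2) (a : Fin 27) : Fin 27 := Fin.ofNat 27 ((tblL.getD k.val []).getD a.val 0)

def parK (a : Fin 27) : Fin 2 := Fin.ofNat 2 (parKL.getD a.val 0)

def parA (a : Fin 27) : Fin 27 := Fin.ofNat 27 (parAL.getD a.val 0)

def ct (a : Fin 27) : Fin 27 := Fin.ofNat 27 (ctL.getD a.val 0)

def ee (a : Fin 27) : ℕ := eL.getD a.val 0

def ff (x : Fin 63) : Bool := fL.getD x.val 0 == 1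

def wit (a : Fin 27) : Fin 63 := Fin.ofNat 63 (witL.getD a.val 0)

def pl (a : Fin 27) : List ℕ := pmL.getD a.val []

set_option maxRecDepth 100000 in
lemma pf_inv : ∀ a : Fin 27, ∀ i : Fin 63, pfun (pl (iv a)) (pfun (pl a) i) = i := by decide +kernel

lemma iv_iv : ∀ a : Fin 27, iv (iv a) = a := by decide +kernel

/-- the list of the 27 permutations of `U0`. -/
def pm (a : Fin 27) : Equiv.Perm (Fin 63) where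
  toFun := pfun (pl a)
  invFun := pfun (pl (iv a))
  left_inv := pf_inv a
  right_inv i := by
    have h := pf_inv (iv a) i
    rwa [iv_iv] at h

set_option maxRecDepth 100000 in
lemma t_inv1 : ∀ i : Fin 63, pfun tiL (pfun tL i) = i := by decide +kernel

set_option maxRecDepth 100000 in
lemma t_inv2 : ∀ i : Fin 63, pfun tL (pfun tiL i) = i := by decide +kernel

set_option maxRecDepth 100000 in
lemma w_inv1 : ∀ i : Fin 63, pfun wiL (pfun wL i) = i := by decide +kernel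

set_option maxRecDepth 100000 in
lemma w_inv2 : ∀ i : Fin 63, pfun wL (pfun wiL i) = i := by decide +kernel

/-- the element of order `8`. -/
def tP : Equiv.Perm (Fin 63) := ⟨pfun tL, pfun tiL, t_inv1, t_inv2⟩

/-- the Weyl element. -/
def wP : Equiv.Perm (Fin 63) := ⟨pfun wL, pfun wiL, w_inv1, w_inv2⟩

/-- the two generators of `U0`: elements number 1, 2 of the list. -/
def ug (k : Fin 2) : Equiv.Perm (Fin 63) := pm (Fin.ofNat 27 (k.val + 1))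

/-- the generator of the centre `Z0`. -/
def zP : Equiv.Perm (Fin 63) := pm 25

end Cfsg.Agent.U33.Conc
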