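import Mathlib
import Cfsg.Agent.Lib.U33.U33CONCData

/-! S3670 piece U33-CONC, kernel-checked facts about the data (helper25). -/

set_option autoImplicit false

namespace Cfsg.Agent.U33.Conc

open Cfsg.Agent.Helper15.G2U3 Cfsg.Agent.Helper15.SylGen

lemma pm_zero : pm 0 = 1 := by decide +kernel

set_option maxRecDepth 100000 in
lemma ug_mul : ∀ (k : Fin 2) (a : Fin 27), ug k * pm a = pm (tbl k a) := by decide +kernel

set_option maxRecDepth 100000 in
lemma pm_par : ∀ a : Fin 27, a ≠ 0 →
    (parA a).val < a.val ∧ pm a = ug (parK a) * pm (parA a) := by decide +kernel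

set_option maxRecDepth 100000 in
lemma pm_inj : ∀ a b : Fin 27, pm a = pm b → a = b := by decide +kernel

set_option maxRecDepth 100000 in
lemma ug_word : ∀ (k : Fin 2) (x : Fin 63), ug k x = evf tf (wordU k) x := by decide +kernel

set_option maxRecDepth 100000 in
lemma t_word : ∀ x : Fin 63, tP x = evf tf wordT x := by decide +kernel

set_option maxRecDepth 100000 in
lemma w_word : ∀ x : Fin 63, wP x = evf tf wordW x := by decide +kernel

set_option maxRecDepth 100000 in
lemma t_conj : ∀ a : Fin 27, tP * pm a * tP⁻¹ = pm (ct a) := by decide +kernel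

set_option maxRecDepth 100000 in
lemma z_comm : ∀ a : Fin 27, zP * pm a = pm a * zP := by decide +kernel

set_option maxRecDepth 100000 in
lemma comm_eq : pm 1 * pm 2 * (pm 1)⁻¹ * (pm 2)⁻¹ = zP := by decide +kernel

set_option maxRecDepth 100000 in
lemma z_ne : zP ≠ 1 := by decide +kernel

set_option maxRecDepth 100000 in
lemma z_cube : zP * zP * zP = 1 := by decide +kernel

set_option maxRecDepth 100000 in
lemma t_z : tP * zP * tP⁻¹ = zP⁻¹ := by decide +kernel

/-- `t ^ 4`, written out. -/
def t4P : Equiv.Perm (Fin 63) := tP * tP * tP * tP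

/-- the powers of `zP`. -/
def zpw (n : ℕ) : Equiv.Perm (Fin 63) := if n = 0 then 1 else if n = 1 then zP else zP * zP

set_option maxRecDepth 100000 in
lemma t4_conj : ∀ a : Fin 27, t4P * pm a * t4P⁻¹ * pm a = zpw (ee a) := by decide +kernel

set_option maxRecDepth 100000 in
lemma t4_ne : t4P ≠ 1 := by decide +kernel

set_option maxRecDepth 100000 in
lemma t8_eq : t4P * t4P = 1 := by decide +kernel

set_option maxRecDepth 100000 in
lemma w_t_eq : wP⁻¹ * tP * wP = t4P * tP := by decide +kernel

set_option maxRecDepth 100000 in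
lemma f_pm : ∀ (a : Fin 27) (x : Fin 63), ff (pm a x) = ff x := by decide +kernel

set_option maxRecDepth 100000 in
lemma f_t : ∀ x : Fin 63, ff (tP x) = ff x := by decide +kernel

set_option maxRecDepth 100000 in
lemma f_w : ∀ a : Fin 27, a ≠ 0 → ff ((wP⁻¹ * pm a * wP) (wit a)) ≠ ff (wit a) := by decide +kernel

end Cfsg.Agent.U33.Conc
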