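import Mathlib
import Cfsg.Agent.Lib.U33.U33Defs
import Cfsg.Agent.Lib.Helper15.G2U3c
import Cfsg.Agent.Lib.U33.U33CONCFacts

/-! S3670 piece U33-CONC: the concrete data in the degree-63 model `RB` of `PSU₃(3)`.
(Extra files go to `Cfsg/Agent/Lib/U33/U33CONC*.lean`.)  Proved by helper25: data in
`U33CONCData.lean`, kernel-checked facts in `U33CONCFacts.lean`, assembly here. -/

set_option autoImplicit false

namespace Cfsg.Agent.U33

namespace Conc

open Cfsg.Agent.Helper15.G2U3 Cfsg.Agent.Helper15.SylGen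

/-- the Sylow `3`-subgroup, as a group of permutations. -/
def U0 : Subgroup (Equiv.Perm (Fin 63)) := Subgroup.closure (Set.range ug)

lemma mem_U0 (g : Equiv.Perm (Fin 63)) : g ∈ U0 ↔ ∃ a, g = pm a :=
  closure_eq_list ug pm tbl 0 pm_zero ug_mul
    (fun a ha => ⟨parK a, parA a, (pm_par a ha).1, (pm_par a ha).2⟩) g

lemma pm_mem_U0 (a : Fin 27) : pm a ∈ U0 := (mem_U0 _).2 ⟨a, rfl⟩

lemma card_U0 : Nat.card U0 = 27 :=
  card_closure_list ug pm tbl 0 pm_zero ug_mul
    (fun a ha => ⟨parK a, parA a, (pm_par a ha).1, (pm_par a ha).2⟩) (fun a b h => pm_inj a b h)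

lemma ug_eq (k : Fin 2) : ug k = evw tg (wordU k) :=
  Equiv.ext (fun x => by rw [evw_apply tg tf tg_apply, ug_word])

lemma ug_mem (k : Fin 2) : ug k ∈ RB := by
  rw [ug_eq]; exact evw_mem tg _

lemma U0_le : U0 ≤ RB := by
  unfold U0
  rw [Subgroup.closure_le]
  rintro _ ⟨k, rfl⟩
  exact ug_mem k

lemma tP_mem : tP ∈ RB := by
  have h : tP = evw tg wordT := Equiv.ext (fun x => by rw [evw_apply tg tf tg_apply, t_word])
  rw [h]; exact evw_mem tg _

lemma wP_mem : wP ∈ RB := by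
  have h : wP = evw tg wordW := Equiv.ext (fun x => by rw [evw_apply tg tf tg_apply, w_word])
  rw [h]; exact evw_mem tg _

lemma zP_mem_U0 : zP ∈ U0 := pm_mem_U0 _

lemma t4P_eq : t4P = tP ^ 4 := by
  simp only [t4P, pow_succ, pow_zero, one_mul]

lemma orderOf_tP : orderOf tP = 8 := by
  haveI : Fact (Nat.Prime 2) := ⟨Nat.prime_two⟩
  have h := orderOf_eq_prime_pow (x := tP) (p := 2) (n := 2)
    (by norm_num; rw [← t4P_eq]; exact t4_ne)
    (by
      have h8 : tP ^ 2 ^ (2 + 1) = tP ^ 4 * tP ^ 4 := by rw [← pow_add]; norm_num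
      rw [h8, ← t4P_eq]; exact t8_eq)
  simpa using h

lemma orderOf_zP : orderOf zP = 3 := by
  haveI : Fact (Nat.Prime 3) := ⟨Nat.prime_three⟩
  apply orderOf_eq_prime
  · have h3 : zP ^ 3 = zP * zP * zP := by
      simp only [pow_succ, pow_zero, one_mul]
    rw [h3]; exact z_cube
  · exact z_ne

lemma zpw_mem (n : ℕ) : zpw n ∈ Subgroup.zpowers zP := by
  unfold zpw
  split_ifs
  · exact Subgroup.one_mem _
  · exact Subgroup.mem_zpowers _
  · exact Subgroup.mul_mem _ (Subgroup.mem_zpowers _) (Subgroup.mem_zpowers _)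

/-- the elements of `RB` preserving the `9`-point orbit of the Borel subgroup. -/
def Stab : Subgroup ↥RB where
  carrier := {g | ∀ x, ff ((g : Equiv.Perm (Fin 63)) x) = ff x}
  mul_mem' := by
    intro g h hg hh x
    have : ((g * h : ↥RB) : Equiv.Perm (Fin 63)) x = (g : Equiv.Perm (Fin 63)) ((h : Equiv.Perm (Fin 63)) x) := rfl
    rw [this, hg, hh]
  one_mem' := by
    intro x; rfl
  inv_mem' := by
    intro g hg x
    have h1 := hg (((g⁻¹ : ↥RB) : Equiv.Perm (Fin 63)) x)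
    have h2 : (g : Equiv.Perm (Fin 63)) (((g⁻¹ : ↥RB) : Equiv.Perm (Fin 63)) x) = x := by
      rw [Subgroup.coe_inv]
      exact Equiv.apply_symm_apply _ x
    rw [h2] at h1
    exact h1.symm

lemma card_RB : Nat.card ↥RB = 6048 := by
  haveI : Fact (Nat.Prime 3) := ⟨Nat.prime_three⟩
  haveI : Finite (GaloisField 3 2) := Nat.finite_of_card_ne_zero (by
    rw [GaloisField.card 3 2 (by norm_num)]; norm_num)
  letI : Fintype (GaloisField 3 2) := Fintype.ofFinite _
  have hK : Fintype.card (GaloisField 3 2) = 9 := by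
    rw [Fintype.card_eq_nat_card, GaloisField.card 3 2 (by norm_num)]; norm_num
  exact (psu_equiv hK).1

end Conc

open Conc Cfsg.Agent.Helper15.G2U3 in
theorem exists_gsetup_RB : Nonempty (GSetup ↥Cfsg.Agent.Helper15.G2U3.RB) := by
  -- membership in `U` unfolds to membership of the underlying permutation in the list
  have hU : ∀ u : ↥RB, u ∈ U0.subgroupOf RB ↔ ∃ a, (u : Equiv.Perm (Fin 63)) = pm a := by
    intro u
    rw [Subgroup.mem_subgroupOf, mem_U0]
  have hZ : ∀ z : ↥RB, z ∈ (Subgroup.zpowers zP).subgroupOf RB ↔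
      ∃ k : ℤ, zP ^ k = (z : Equiv.Perm (Fin 63)) := by
    intro z
    rw [Subgroup.mem_subgroupOf, Subgroup.mem_zpowers_iff]
  have hZle : Subgroup.zpowers zP ≤ U0 := by
    rw [Subgroup.zpowers_le]; exact zP_mem_U0
  refine ⟨{
    U := U0.subgroupOf RB
    Z := (Subgroup.zpowers zP).subgroupOf RB
    t := ⟨tP, tP_mem⟩
    w := ⟨wP, wP_mem⟩
    card_G := card_RB
    card_U := ?_
    card_Z := ?_
    Z_le_U := ?_
    order_t := ?_
    t_norm := ?_
    Z_central := ?_
    Z_comm := ?_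
    t_inv_Z := ?_
    t4_inv := ?_
    w_t := ?_
    w_U := ?_ }⟩
  · -- card_U
    rw [Nat.card_congr (Subgroup.subgroupOfEquivOfLe U0_le).toEquiv, card_U0]
  · -- card_Z
    rw [Nat.card_congr (Subgroup.subgroupOfEquivOfLe (hZle.trans U0_le)).toEquiv,
      Nat.card_zpowers, orderOf_zP]
  · -- Z ≤ U
    intro x hx
    rw [Subgroup.mem_subgroupOf] at hx ⊢
    exact hZle hx
  · -- order of t
    rw [Subgroup.orderOf_mk, orderOf_tP]
  · -- t normalises U
    intro u hu
    obtain ⟨a, ha⟩ := (hU u).1 hu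
    rw [hU]
    refine ⟨ct a, ?_⟩
    rw [Subgroup.coe_mul, Subgroup.coe_mul, Subgroup.coe_inv, ha]
    exact t_conj a
  · -- Z central in U
    intro z hz u hu
    obtain ⟨k, hk⟩ := (hZ z).1 hz
    obtain ⟨a, ha⟩ := (hU u).1 hu
    apply Subtype.ext
    rw [Subgroup.coe_mul, Subgroup.coe_mul, ← hk, ha]
    have hc : Commute zP (pm a) := z_comm a
    exact (hc.zpow_left k).eq
  · -- a nontrivial commutator in Z
    refine ⟨⟨pm 1, U0_le (pm_mem_U0 1)⟩, (hU _).2 ⟨1, rfl⟩, ⟨pm 2, U0_le (pm_mem_U0 2)⟩,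
      (hU _).2 ⟨2, rfl⟩, ?_, ?_⟩
    · rw [hZ]
      refine ⟨1, ?_⟩
      rw [zpow_one]
      simp only [Subgroup.coe_mul, Subgroup.coe_inv]
      exact comm_eq.symm
    · intro h
      have h2 := congrArg Subtype.val h
      simp only [Subgroup.coe_mul, Subgroup.coe_inv, Subgroup.coe_one] at h2
      rw [comm_eq] at h2
      exact z_ne h2
  · -- t inverts Z
    intro z hz
    obtain ⟨k, hk⟩ := (hZ z).1 hz
    apply Subtype.ext
    rw [Subgroup.coe_mul, Subgroup.coe_mul, Subgroup.coe_inv, Subgroup.coe_inv, ← hk]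
    change tP * zP ^ k * tP⁻¹ = (zP ^ k)⁻¹
    rw [← conj_zpow, t_z, inv_zpow]
  · -- t^4 inverts U/Z
    intro u hu
    obtain ⟨a, ha⟩ := (hU u).1 hu
    rw [Subgroup.mem_subgroupOf]
    simp only [Subgroup.coe_mul, Subgroup.coe_inv, Subgroup.coe_pow]
    rw [ha]
    change tP ^ 4 * pm a * (tP ^ 4)⁻¹ * pm a ∈ Subgroup.zpowers zP
    rw [← t4P_eq, t4_conj]
    exact zpw_mem _
  · -- w⁻¹ t w = t^5
    apply Subtype.ext
    simp only [Subgroup.coe_mul, Subgroup.coe_inv, Subgroup.coe_pow]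
    change wP⁻¹ * tP * wP = tP ^ 5
    rw [w_t_eq, t4P_eq, ← pow_succ]
  · -- U^w ∩ B = 1
    intro u hu hmem
    obtain ⟨a, ha⟩ := (hU u).1 hu
    -- the Borel subgroup preserves the orbit
    have hB : U0.subgroupOf RB ⊔ Subgroup.zpowers (⟨tP, tP_mem⟩ : ↥RB) ≤ Stab := by
      apply sup_le
      · intro v hv
        obtain ⟨b, hb⟩ := (hU v).1 hv
        intro x
        rw [hb]
        exact f_pm b x
      · rw [Subgroup.zpowers_le]
        intro x
        exact f_t x
    have hS := hB hmem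
    by_cases h0 : a = 0
    · apply Subtype.ext
      rw [ha, h0, pm_zero]; rfl
    · exfalso
      have h1 := hS (wit a)
      apply f_w a h0
      have h2 : (((⟨wP, wP_mem⟩ : ↥RB)⁻¹ * u * ⟨wP, wP_mem⟩ : ↥RB) : Equiv.Perm (Fin 63))
          = wP⁻¹ * pm a * wP := by
        simp only [Subgroup.coe_mul, Subgroup.coe_inv]
        rw [ha]
      rw [h2] at h1
      exact h1

end Cfsg.Agent.U33
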