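import Mathlib
import Cfsg.Agent.Lib.U33.U33Defs
import Cfsg.Agent.Lib.Helper24.CharAlgebra
import Cfsg.Agent.Lib.Helper24.CharInduced
import Cfsg.Agent.Lib.Helper24.CharComplete
import Cfsg.Agent.Lib.Helper24.CharIntegral
import Cfsg.Agent.Lib.Helper12.CharNormTwo

/-! S3670 module HC: definitions (helper13). Do not edit. -/

set_option autoImplicit false

namespace Cfsg.Agent.U33

open Cfsg Cfsg.Agent.Helper24
open scoped ComplexConjugate

universe u

variable {G : Type u} [Group G] [Fintype G]

/-- the principal series characters -/
noncomputable def HCData.IndL (D : HCData G) (k : ℕ) : G → ℂ := indFun D.B (lamk D.ch.lam k)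

/-- the character induced from `psi8` -/
noncomputable def HCData.Theta (D : HCData G) : G → ℂ := indFun D.B D.ch.psi8

/-- multiplicity, as a natural number -/
noncomputable def mult (Φ χ : G → ℂ) : ℕ := ⌊(classInner Φ χ).re⌋₊

/-- the trivial character -/
def triv (G : Type u) : G → ℂ := fun _ => 1

/-- the six pairwise orthogonal principal series characters -/
def KK : Finset ℕ := {0, 1, 3, 2, 4, 6}

end Cfsg.Agent.U33
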