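import Mathlib
import Cfsg.Agent.Lib.U33.U33Defs
import Cfsg.Agent.Lib.Helper24.CharAlgebra
import Cfsg.Agent.Lib.Helper24.CharInduced
import Cfsg.Agent.Lib.Helper24.CharComplete
import Cfsg.Agent.Lib.Helper24.CharIntegral
import Cfsg.Agent.Lib.Helper12.CharNormTwo
import Cfsg.Agent.Lib.U33.U33HCDefs
import Cfsg.Agent.Lib.Helper24.CharLinear

/-! S3670 piece U33-HC-GEN: the trivial character; a simple group of order 6048 has no other linear character; degrees divide 6048. -/

set_option autoImplicit false

namespace Cfsg.Agent.U33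

open Cfsg Cfsg.Agent.Helper24
open scoped ComplexConjugate

universe u

variable {G : Type u} [Group G] [Fintype G]

theorem isIrrCharacter_triv : IsIrrCharacter G (triv G) :=
  isIrrCharacter_one

theorem eq_triv_of_degree_one (D : HCData G) {χ : G → ℂ} (hχ : IsIrrCharacter G χ)
    (h : charDegree χ = 1) : χ = triv G := by
  have hc := isCharacter_of_isIrrCharacter hχ
  have h1 : χ 1 = 1 := by
    rw [irr_one_eq_charDegree hχ, h]
    simp
  let f : G →* ℂˣ := linHom hc h1
  have hf : ∀ g, ((f g : ℂˣ) : ℂ) = χ g := fun g => linHom_apply hc h1 g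
  haveI := D.simple
  rcases (MonoidHom.normal_ker f).eq_bot_or_eq_top with hk | hk
  · exfalso
    have hinj : Function.Injective f := (MonoidHom.ker_eq_bot_iff f).mp hk
    have hcomm : ∀ a b : G, a * b = b * a := by
      intro a b
      apply hinj
      rw [map_mul, map_mul, mul_comm]
    let cg : CommGroup G := { (inferInstance : Group G) with mul_comm := hcomm }
    have hp : (Nat.card G).Prime := @IsSimpleGroup.prime_card G cg D.simple
    rw [D.card_G] at hp
    norm_num at hp
  · funext g
    have hg : g ∈ f.ker := by rw [hk]; exact Subgroup.mem_top g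
    rw [MonoidHom.mem_ker] at hg
    rw [← hf g, hg]
    rfl

theorem degree_dvd (D : HCData G) {χ : G → ℂ} (hχ : IsIrrCharacter G χ) :
    charDegree χ ∣ 6048 := by
  rw [← D.card_G]
  exact charDegree_dvd_card hχ

end Cfsg.Agent.U33
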