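import Mathlib
import Cfsg.Agent.Lib.U33.U33Defs
import Cfsg.Agent.Lib.Helper24.CharAlgebra
import Cfsg.Agent.Lib.Helper24.CharInduced
import Cfsg.Agent.Lib.Helper24.CharComplete
import Cfsg.Agent.Lib.Helper24.CharIntegral
import Cfsg.Agent.Lib.Helper12.CharNormTwo
import Cfsg.Agent.Lib.U33.U33HCDefs
import Cfsg.Agent.Lib.Helper24.CharLinear

/-! S3670 piece U33-HC-LAM: the linear characters `lamk lam k` of `B`. -/

set_option autoImplicit false

namespace Cfsg.Agent.U33

open Cfsg Cfsg.Agent.Helper24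
open scoped ComplexConjugate

universe u

variable {G : Type u} [Group G] [Fintype G]

theorem lamk_irr (D : HCData G) (k : ℕ) : IsIrrCharacter D.B (lamk D.ch.lam k) := by
  have h := isIrrCharacter_of_monoidHom (D.ch.lam ^ k)
  have e : lamk D.ch.lam k = fun g => (((D.ch.lam ^ k) g : ℂˣ) : ℂ) := by
    funext b
    simp [lamk]
  rw [e]
  exact h

theorem lamk_zero (D : HCData G) : lamk D.ch.lam 0 = fun _ => 1 := by
  funext b
  simp [lamk]

theorem lamk_ne (D : HCData G) {k k' : ℕ} (hk : k < 8) (hk' : k' < 8) (h : k ≠ k') :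
    lamk D.ch.lam k ≠ lamk D.ch.lam k' := by
  intro he
  have h1 := congrFun he D.tB
  simp only [lamk] at h1
  exact h (D.ch.zeta_prim.pow_inj hk hk' h1)

theorem lamk_ne_psi8 (D : HCData G) (k : ℕ) : lamk D.ch.lam k ≠ D.ch.psi8 := by
  intro he
  have h1 := congrFun he 1
  rw [D.ch.psi8_one] at h1
  simp [lamk] at h1

end Cfsg.Agent.U33
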