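import Mathlib
import Cfsg.Agent.Lib.U33.U33Defs
import Cfsg.Agent.Lib.Helper24.CharAlgebra
import Cfsg.Agent.Lib.Helper24.CharInduced
import Cfsg.Agent.Lib.Helper24.CharComplete
import Cfsg.Agent.Lib.Helper24.CharIntegral
import Cfsg.Agent.Lib.Helper12.CharNormTwo
import Cfsg.Agent.Lib.U33.U33HCDefs

/-! S3670 piece U33-HC-MULT: generalities on the natural-number multiplicity `mult`. -/

set_option autoImplicit false

namespace Cfsg.Agent.U33

open Cfsg Cfsg.Agent.Helper24
open scoped ComplexConjugate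

universe u

variable {G : Type u} [Group G] [Fintype G]

theorem mult_spec {Φ χ : G → ℂ} (hΦ : IsCharacter G Φ) (hχ : IsCharacter G χ) :
    classInner Φ χ = (mult Φ χ : ℂ) := by
  classical
  letI : Fintype (IrrCharacter G) := irrFintype
  obtain ⟨n, hn⟩ := classInner_char_nat hΦ hχ
  unfold mult
  rw [hn]
  simp

theorem u33_mult_eq_of_cast {Φ χ : G → ℂ} {n : ℕ} (h : classInner Φ χ = (n : ℂ)) :
    mult Φ χ = n := by
  unfold mult
  rw [h]
  simp

theorem mult_add_left {Φ Ψ χ : G → ℂ} (hΦ : IsCharacter G Φ) (hΨ : IsCharacter G Ψ)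
    (hχ : IsCharacter G χ) : mult (Φ + Ψ) χ = mult Φ χ + mult Ψ χ := by
  apply u33_mult_eq_of_cast
  rw [classInner_add_left, mult_spec hΦ hχ, mult_spec hΨ hχ]
  push_cast
  rfl

theorem mult_add_right {Φ α β : G → ℂ} (hΦ : IsCharacter G Φ) (hα : IsCharacter G α)
    (hβ : IsCharacter G β) : mult Φ (α + β) = mult Φ α + mult Φ β := by
  apply u33_mult_eq_of_cast
  rw [classInner_add_right, mult_spec hΦ hα, mult_spec hΦ hβ]
  push_cast
  rfl

theorem mult_sum_left {κ : Type*} (s : Finset κ) (Φ : κ → G → ℂ) {χ : G → ℂ}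
    (hΦ : ∀ i ∈ s, IsCharacter G (Φ i)) (hχ : IsCharacter G χ) :
    mult (∑ i ∈ s, Φ i) χ = ∑ i ∈ s, mult (Φ i) χ := by
  apply u33_mult_eq_of_cast
  rw [classInner_sum_left]
  push_cast
  exact Finset.sum_congr rfl fun i hi => mult_spec (hΦ i hi) hχ

theorem mult_sum_right {κ : Type*} (s : Finset κ) (Φ : κ → G → ℂ) {χ : G → ℂ}
    (hΦ : ∀ i ∈ s, IsCharacter G (Φ i)) (hχ : IsCharacter G χ) :
    mult χ (∑ i ∈ s, Φ i) = ∑ i ∈ s, mult χ (Φ i) := by
  apply u33_mult_eq_of_cast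
  rw [classInner_sum_right]
  push_cast
  exact Finset.sum_congr rfl fun i hi => mult_spec hχ (hΦ i hi)

theorem mult_comm {Φ χ : G → ℂ} (hΦ : IsCharacter G Φ) (hχ : IsCharacter G χ) :
    mult Φ χ = mult χ Φ := by
  classical
  letI : Fintype (IrrCharacter G) := irrFintype
  apply u33_mult_eq_of_cast
  rw [classInner_char_comm hΦ hχ, mult_spec hχ hΦ]

theorem mult_irr {α β : G → ℂ} (hα : IsIrrCharacter G α) (hβ : IsIrrCharacter G β) :
    mult α β = if α = β then 1 else 0 := by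
  apply u33_mult_eq_of_cast
  rw [irr_orthogonality hα hβ]
  split_ifs <;> simp

/-- sums over the irreducible characters against an irreducible character -/
theorem sum_mult_irr [Fintype (IrrCharacter G)] {α : G → ℂ} (hα : IsIrrCharacter G α)
    (f : IrrCharacter G → ℕ) :
    ∑ χ : IrrCharacter G, mult α (χ : G → ℂ) * f χ = f ⟨α, hα⟩ := by
  classical
  rw [Finset.sum_eq_single (⟨α, hα⟩ : IrrCharacter G)]
  · rw [mult_irr hα hα, if_pos rfl, one_mul]
  · intro χ _ hne
    rw [mult_irr hα χ.2, if_neg, zero_mul]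
    intro h
    apply hne
    exact Subtype.ext h.symm
  · intro h
    exact absurd (Finset.mem_univ _) h

/-- Parseval in naturals -/
theorem sum_mult_mul [Fintype (IrrCharacter G)] {Φ Ψ : G → ℂ} (hΦ : IsCharacter G Φ)
    (hΨ : IsCharacter G Ψ) :
    ∑ χ : IrrCharacter G, mult Φ (χ : G → ℂ) * mult Ψ (χ : G → ℂ) = mult Φ Ψ := by
  symm
  apply u33_mult_eq_of_cast
  rw [classInner_eq_sum_mul (isClassFunction_of_isCharacter hΦ)]
  push_cast
  refine Finset.sum_congr rfl fun χ _ => ?_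
  rw [mult_spec hΦ (isCharacter_of_isIrrCharacter χ.2),
    mult_spec hΨ (isCharacter_of_isIrrCharacter χ.2), Complex.conj_natCast]

/-- degree through multiplicities -/
theorem sum_mult_degree [Fintype (IrrCharacter G)] {Φ : G → ℂ} (hΦ : IsCharacter G Φ) :
    ∑ χ : IrrCharacter G, mult Φ (χ : G → ℂ) * charDegree (χ : G → ℂ) = charDegree Φ := by
  obtain ⟨_, h2⟩ := isCharacter_decomp hΦ
  have h1 := congrFun h2 1
  rw [Finset.sum_apply] at h1
  have h3 : Φ 1 = ((∑ χ : IrrCharacter G, mult Φ (χ : G → ℂ) * charDegree (χ : G → ℂ) : ℕ) : ℂ) := by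
    rw [h1]
    push_cast
    refine Finset.sum_congr rfl fun χ _ => ?_
    rw [Pi.smul_apply, smul_eq_mul, mult_spec hΦ (isCharacter_of_isIrrCharacter χ.2),
      irr_one_eq_charDegree χ.2]
  exact (charDegree_natCast _ h3).symm

end Cfsg.Agent.U33
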