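import Mathlib
import Cfsg.Agent.Lib.U33.U33Defs
import Cfsg.Agent.Lib.Helper24.CharAlgebra
import Cfsg.Agent.Lib.Helper24.CharInduced
import Cfsg.Agent.Lib.Helper24.CharComplete
import Cfsg.Agent.Lib.Helper24.CharIntegral
import Cfsg.Agent.Lib.Helper12.CharNormTwo
import Cfsg.Agent.Lib.U33.U33HCDefs
import Cfsg.Agent.Lib.Helper24.CharLinear
import Cfsg.Agent.Lib.U33.U33HCMULT
import Cfsg.Agent.Lib.U33.U33HCLAM

/-! S3670 piece U33-HC-INNER1: the induced characters are characters, their degrees (index 28), multiplicity of the trivial character (Frobenius reciprocity). -/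

set_option autoImplicit false

namespace Cfsg.Agent.U33

open Cfsg Cfsg.Agent.Helper24
open scoped ComplexConjugate

universe u

variable {G : Type u} [Group G] [Fintype G]

theorem isCharacter_IndL (D : HCData G) (k : ℕ) : IsCharacter G (D.IndL k) :=
  isCharacter_indFun D.B (isCharacter_of_isIrrCharacter (lamk_irr D k))

theorem isCharacter_Theta (D : HCData G) : IsCharacter G D.Theta :=
  isCharacter_indFun D.B (isCharacter_of_isIrrCharacter D.ch.psi8_irr)

theorem u33_index_B (D : HCData G) : D.B.index = 28 := by
  have h := Subgroup.index_mul_card D.B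
  rw [D.card_B, D.card_G] at h
  omega

theorem charDegree_IndL (D : HCData G) (k : ℕ) : charDegree (D.IndL k) = 28 := by
  apply charDegree_natCast
  unfold HCData.IndL
  rw [indFun_one, u33_index_B]
  simp [lamk]

theorem charDegree_Theta (D : HCData G) : charDegree D.Theta = 224 := by
  apply charDegree_natCast
  unfold HCData.Theta
  rw [indFun_one, u33_index_B, D.ch.psi8_one]
  norm_num

theorem u33_isClassFunction_triv : IsClassFunction G (triv G) := fun _ _ => rfl

theorem mult_IndL_zero_triv (D : HCData G) : mult (D.IndL 0) (triv G) = 1 := by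
  classical
  letI : Fintype D.B := Fintype.ofFinite _
  apply u33_mult_eq_of_cast
  unfold HCData.IndL
  rw [frobenius_reciprocity D.B _ u33_isClassFunction_triv, lamk_zero]
  have h := irr_orthogonality (isIrrCharacter_one (G := D.B)) (isIrrCharacter_one (G := D.B))
  rw [if_pos rfl] at h
  simpa [triv] using h

theorem mult_Theta_triv (D : HCData G) : mult D.Theta (triv G) = 0 := by
  classical
  letI : Fintype D.B := Fintype.ofFinite _
  apply u33_mult_eq_of_cast
  unfold HCData.Theta
  rw [frobenius_reciprocity D.B _ u33_isClassFunction_triv]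
  have hne : D.ch.psi8 ≠ (fun _ : D.B => (1 : ℂ)) := by
    intro he
    have h1 := congrFun he 1
    rw [D.ch.psi8_one] at h1
    norm_num at h1
  have h := irr_orthogonality D.ch.psi8_irr (isIrrCharacter_one (G := D.B))
  rw [if_neg hne] at h
  simpa [triv] using h

end Cfsg.Agent.U33
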