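import Mathlib
import Cfsg.Agent.Lib.U33.U33Defs
import Cfsg.Agent.Lib.Helper24.CharAlgebra
import Cfsg.Agent.Lib.Helper24.CharInduced
import Cfsg.Agent.Lib.Helper24.CharComplete
import Cfsg.Agent.Lib.Helper24.CharIntegral
import Cfsg.Agent.Lib.Helper12.CharNormTwo
import Cfsg.Agent.Lib.U33.U33HCDefs

/-! S3670 piece U33-HC-TPAIR: the torus pairings (sums of 8th roots of unity; `psi8` vanishes on `t^j`, `8 ∤ j`). -/

set_option autoImplicit false

namespace Cfsg.Agent.U33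

open Cfsg Cfsg.Agent.Helper24
open scoped ComplexConjugate

universe u

variable {G : Type u} [Group G] [Fintype G]

theorem u33_conj_zeta (D : HCData G) :
    conj ((D.ch.lam D.tB : ℂˣ) : ℂ) = ((D.ch.lam D.tB : ℂˣ) : ℂ) ^ 7 := by
  have hz := D.ch.zeta_prim
  have hn : ‖((D.ch.lam D.tB : ℂˣ) : ℂ)‖ = 1 := hz.norm'_eq_one (by norm_num)
  rw [← Complex.inv_eq_conj hn]
  have h8 : ((D.ch.lam D.tB : ℂˣ) : ℂ) ^ 8 = 1 := hz.pow_eq_one
  have hne : ((D.ch.lam D.tB : ℂˣ) : ℂ) ≠ 0 := Units.ne_zero _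
  field_simp
  rw [← h8]

theorem u33_lamk_pow (D : HCData G) (k j : ℕ) :
    lamk D.ch.lam k (D.tB ^ j) = ((D.ch.lam D.tB : ℂˣ) : ℂ) ^ (j * k) := by
  simp only [lamk, map_pow, Units.val_pow_eq_pow_val]
  rw [pow_mul]

theorem u33_geom (η : ℂ) (h8 : η ^ 8 = 1) :
    ∑ j ∈ Finset.range 8, η ^ j = if η = 1 then 8 else 0 := by
  split_ifs with h
  · subst h
    simp
  · have h1 := geom_sum_mul η 8
    rw [h8, sub_self] at h1
    rcases mul_eq_zero.mp h1 with h2 | h2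
    · exact h2
    · exact absurd (sub_eq_zero.mp h2) h

theorem tPair_lam_lam (D : HCData G) (k k' : ℕ) :
    tPair D.tB (lamk D.ch.lam k) (lamk D.ch.lam k') = if 8 ∣ k + 3 * k' then 1 else 0 := by
  have hz := D.ch.zeta_prim
  set ζ : ℂ := ((D.ch.lam D.tB : ℂˣ) : ℂ) with hζ
  have h8 : ζ ^ 8 = 1 := hz.pow_eq_one
  unfold tPair
  have hterm : ∀ j ∈ Finset.range 8, lamk D.ch.lam k (D.tB ^ j) *
      conj (lamk D.ch.lam k' (D.tB ^ (5 * j))) = (ζ ^ (k + 35 * k')) ^ j := by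
    intro j _
    rw [u33_lamk_pow, u33_lamk_pow, map_pow, u33_conj_zeta, ← hζ, ← pow_mul, ← pow_add, ← pow_mul]
    congr 1
    ring
  rw [Finset.sum_congr rfl hterm, u33_geom _ (by rw [← pow_mul, mul_comm, pow_mul, h8, one_pow])]
  have hiff : ζ ^ (k + 35 * k') = 1 ↔ 8 ∣ k + 3 * k' := by
    rw [hz.pow_eq_one_iff_dvd]
    constructor <;> intro h <;> omega
  by_cases h : 8 ∣ k + 3 * k'
  · rw [if_pos (hiff.mpr h), if_pos h]
    norm_num
  · rw [if_neg (fun h' => h (hiff.mp h')), if_neg h]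
    simp

theorem u33_psi8_pow (D : HCData G) {j : ℕ} (hj : j ∈ Finset.range 8) (h0 : j ≠ 0) (c : ℕ)
    (hc : c = 1 ∨ c = 5) : D.ch.psi8 (D.tB ^ (c * j)) = 0 := by
  apply D.ch.psi8_t
  rw [Finset.mem_range] at hj
  rcases hc with rfl | rfl <;> omega

theorem tPair_lam_psi8 (D : HCData G) (k : ℕ) :
    tPair D.tB (lamk D.ch.lam k) D.ch.psi8 = 1 := by
  unfold tPair
  rw [Finset.sum_eq_single 0]
  · simp only [mul_zero, pow_zero, D.ch.psi8_one]
    have h8c : (starRingEnd ℂ) (8 : ℂ) = 8 := by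
      have := Complex.conj_natCast 8
      simpa using this
    simp [lamk, h8c]
  · intro j hj h0
    rw [u33_psi8_pow D hj h0 5 (Or.inr rfl)]
    simp
  · intro h
    exact absurd (Finset.mem_range.mpr (by norm_num)) h

theorem tPair_psi8_psi8 (D : HCData G) : tPair D.tB D.ch.psi8 D.ch.psi8 = 8 := by
  unfold tPair
  rw [Finset.sum_eq_single 0]
  · simp only [mul_zero, pow_zero, D.ch.psi8_one]
    have h8c : (starRingEnd ℂ) (8 : ℂ) = 8 := by
      have := Complex.conj_natCast 8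
      simpa using this
    rw [h8c]
    norm_num
  · intro j hj h0
    rw [u33_psi8_pow D hj h0 5 (Or.inr rfl)]
    simp
  · intro h
    exact absurd (Finset.mem_range.mpr (by norm_num)) h

end Cfsg.Agent.U33
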