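import Mathlib
import Cfsg.Agent.Lib.U33.U33Defs
import Cfsg.Agent.Lib.Helper24.CharAlgebra
import Cfsg.Agent.Lib.Helper24.CharInduced
import Cfsg.Agent.Lib.Helper24.CharComplete
import Cfsg.Agent.Lib.Helper24.CharIntegral
import Cfsg.Agent.Lib.Helper12.CharNormTwo
import Cfsg.Agent.Lib.U33.U33HCDefs
import Cfsg.Agent.Lib.U33.U33HCMULT
import Cfsg.Agent.Lib.U33.U33HCLAM
import Cfsg.Agent.Lib.U33.U33HCTPAIR
import Cfsg.Agent.Lib.U33.U33HCINNER1

/-! S3670 piece U33-HC-INNER2: inner products of the induced characters from `D.mackey`, orthogonality in `B` and the torus pairings. -/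

set_option autoImplicit false

namespace Cfsg.Agent.U33

open Cfsg Cfsg.Agent.Helper24
open scoped ComplexConjugate

universe u

variable {G : Type u} [Group G] [Fintype G]

theorem mult_IndL_IndL (D : HCData G) {k k' : ℕ} (hk : k < 8) (hk' : k' < 8) :
    mult (D.IndL k) (D.IndL k') = (if k = k' then 1 else 0) + (if 8 ∣ k + 3 * k' then 1 else 0) := by
  classical
  letI : Fintype D.B := Fintype.ofFinite _
  apply u33_mult_eq_of_cast
  unfold HCData.IndL
  rw [D.mackey _ _ (isClassFunction_of_isIrrCharacter (lamk_irr D k))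
    (isClassFunction_of_isIrrCharacter (lamk_irr D k')), tPair_lam_lam,
    irr_orthogonality (lamk_irr D k) (lamk_irr D k')]
  by_cases h : k = k'
  · subst h
    rw [if_pos rfl, if_pos rfl]
    split_ifs <;> norm_num
  · rw [if_neg (lamk_ne D hk hk' h), if_neg h]
    split_ifs <;> simp

theorem mult_IndL_Theta (D : HCData G) (k : ℕ) : mult (D.IndL k) D.Theta = 1 := by
  classical
  letI : Fintype D.B := Fintype.ofFinite _
  apply u33_mult_eq_of_cast
  unfold HCData.IndL HCData.Theta
  rw [D.mackey _ _ (isClassFunction_of_isIrrCharacter (lamk_irr D k))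
    (isClassFunction_of_isIrrCharacter D.ch.psi8_irr), tPair_lam_psi8,
    irr_orthogonality (lamk_irr D k) D.ch.psi8_irr, if_neg (lamk_ne_psi8 D k)]
  simp

theorem mult_Theta_Theta (D : HCData G) : mult D.Theta D.Theta = 9 := by
  classical
  letI : Fintype D.B := Fintype.ofFinite _
  apply u33_mult_eq_of_cast
  unfold HCData.Theta
  rw [D.mackey _ _ (isClassFunction_of_isIrrCharacter D.ch.psi8_irr)
    (isClassFunction_of_isIrrCharacter D.ch.psi8_irr), tPair_psi8_psi8,
    irr_orthogonality D.ch.psi8_irr D.ch.psi8_irr, if_pos rfl]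
  norm_num

end Cfsg.Agent.U33
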