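import Mathlib
import Cfsg.Agent.Lib.U33.U33Defs
import Cfsg.Agent.Lib.Helper24.CharAlgebra
import Cfsg.Agent.Lib.Helper24.CharInduced
import Cfsg.Agent.Lib.Helper24.CharComplete
import Cfsg.Agent.Lib.Helper24.CharIntegral
import Cfsg.Agent.Lib.Helper12.CharNormTwo
import Cfsg.Agent.Lib.U33.U33HCDefs
import Cfsg.Agent.Lib.U33.U33HCMULT
import Cfsg.Agent.Lib.U33.U33HCLAM
import Cfsg.Agent.Lib.U33.U33HCINNER1

/-! S3670 piece U33-HC-RES: restriction to `B` and the trichotomy: degree = (linear part) + 8 a + 6 m.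
(helper13 design, implemented by helper11.) -/

set_option autoImplicit false

namespace Cfsg.Agent.U33

open Cfsg Cfsg.Agent.Helper24
open scoped ComplexConjugate

universe u

variable {G : Type u} [Group G] [Fintype G]

/-- per irreducible character of `B`: the trichotomy as an identity of natural numbers -/
theorem u33_hcres_pointwise (D : HCData G) [Fintype D.B] (ψ : D.B → ℂ) (hψ : IsIrrCharacter D.B ψ)
    (n : ℕ) :
    ∃ m : ℕ, n * charDegree ψ =
      (∑ k ∈ Finset.range 8, mult (lamk D.ch.lam k) ψ * (n * charDegree ψ)) +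
        mult D.ch.psi8 ψ * (n * charDegree ψ) + 6 * m := by
  classical
  by_cases hA : ∃ k : ℕ, k < 8 ∧ ψ = lamk D.ch.lam k
  · obtain ⟨k0, hk0, rfl⟩ := hA
    refine ⟨0, ?_⟩
    have h1 : ∀ k ∈ Finset.range 8, mult (lamk D.ch.lam k) (lamk D.ch.lam k0) *
        (n * charDegree (lamk D.ch.lam k0)) =
        if k = k0 then n * charDegree (lamk D.ch.lam k0) else 0 := by
      intro k hk
      rw [mult_irr (lamk_irr D k) (lamk_irr D k0)]
      by_cases hkk : k = k0
      · subst hkk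
        rw [if_pos rfl, if_pos rfl, one_mul]
      · rw [if_neg (lamk_ne D (Finset.mem_range.mp hk) hk0 hkk), if_neg hkk, zero_mul]
    rw [Finset.sum_congr rfl h1, Finset.sum_ite_eq' (Finset.range 8) k0,
      if_pos (Finset.mem_range.mpr hk0),
      mult_irr D.ch.psi8_irr (lamk_irr D k0), if_neg (lamk_ne_psi8 D k0).symm]
    ring
  · have hA' : ∀ k ∈ Finset.range 8, mult (lamk D.ch.lam k) ψ * (n * charDegree ψ) = 0 := by
      intro k hk
      rw [mult_irr (lamk_irr D k) hψ, if_neg, zero_mul]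
      intro h
      exact hA ⟨k, Finset.mem_range.mp hk, h.symm⟩
    rw [Finset.sum_eq_zero hA']
    by_cases hP : ψ = D.ch.psi8
    · refine ⟨0, ?_⟩
      rw [hP, mult_irr D.ch.psi8_irr D.ch.psi8_irr, if_pos rfl]
      ring
    · rw [mult_irr D.ch.psi8_irr hψ, if_neg (fun h => hP h.symm)]
      rcases D.ch.tricho ψ hψ with h1 | h1 | ⟨c, hc⟩
      · exact absurd h1 hA
      · exact absurd h1 hP
      · refine ⟨n * c, ?_⟩
        rw [hc]
        ring

theorem degree_decomp (D : HCData G) {χ : G → ℂ} (hχ : IsIrrCharacter G χ) :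
    ∃ m : ℕ, charDegree χ =
      ∑ k ∈ Finset.range 8, mult (D.IndL k) χ + 8 * mult D.Theta χ + 6 * m := by
  classical
  letI : Fintype D.B := Fintype.ofFinite _
  letI : Fintype (IrrCharacter D.B) := irrFintype
  have hχc : IsCharacter G χ := isCharacter_of_isIrrCharacter hχ
  have hχcf : IsClassFunction G χ := isClassFunction_of_isCharacter hχc
  set ρ : D.B → ℂ := fun b => χ b with hρ
  have hρc : IsCharacter D.B ρ := isCharacter_restrict D.B hχc
  have hdeg : charDegree ρ = charDegree χ := by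
    unfold charDegree
    rw [hρ]
    simp
  -- Frobenius reciprocity
  have hfrob : ∀ φ : D.B → ℂ, IsCharacter D.B φ → mult (indFun D.B φ) χ = mult ρ φ := by
    intro φ hφ
    apply u33_mult_eq_of_cast
    rw [frobenius_reciprocity D.B φ hχcf, mult_spec hφ hρc, mult_comm hφ hρc]
  have hfrobL : ∀ k, mult (D.IndL k) χ = mult ρ (lamk D.ch.lam k) := fun k =>
    hfrob _ (isCharacter_of_isIrrCharacter (lamk_irr D k))
  have hfrobT : mult D.Theta χ = mult ρ D.ch.psi8 :=
    hfrob _ (isCharacter_of_isIrrCharacter D.ch.psi8_irr)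
  -- pointwise trichotomy
  have hpt : ∀ ψ : IrrCharacter D.B, ∃ m : ℕ,
      mult ρ (ψ : D.B → ℂ) * charDegree (ψ : D.B → ℂ) =
      (∑ k ∈ Finset.range 8, mult (lamk D.ch.lam k) (ψ : D.B → ℂ) *
        (mult ρ (ψ : D.B → ℂ) * charDegree (ψ : D.B → ℂ))) +
        mult D.ch.psi8 (ψ : D.B → ℂ) * (mult ρ (ψ : D.B → ℂ) * charDegree (ψ : D.B → ℂ)) + 6 * m :=
    fun ψ => u33_hcres_pointwise D (ψ : D.B → ℂ) ψ.2 _
  choose mm hmm using hpt
  have hsum := sum_mult_degree hρc
  rw [hdeg] at hsum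
  refine ⟨∑ ψ : IrrCharacter D.B, mm ψ, ?_⟩
  rw [← hsum, Finset.sum_congr rfl (fun ψ _ => hmm ψ), Finset.sum_add_distrib,
    Finset.sum_add_distrib, Finset.sum_comm, ← Finset.mul_sum]
  have h1 : ∀ k ∈ Finset.range 8,
      ∑ ψ : IrrCharacter D.B, mult (lamk D.ch.lam k) (ψ : D.B → ℂ) *
        (mult ρ (ψ : D.B → ℂ) * charDegree (ψ : D.B → ℂ)) = mult (D.IndL k) χ := by
    intro k _
    rw [sum_mult_irr (lamk_irr D k) (fun ψ => mult ρ (ψ : D.B → ℂ) * charDegree (ψ : D.B → ℂ)),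
      hfrobL k]
    have hd : charDegree (lamk D.ch.lam k) = 1 := by
      apply charDegree_natCast
      simp [lamk]
    show mult ρ (lamk D.ch.lam k) * charDegree (lamk D.ch.lam k) = mult ρ (lamk D.ch.lam k)
    rw [hd, mul_one]
  have h2 : ∑ ψ : IrrCharacter D.B, mult D.ch.psi8 (ψ : D.B → ℂ) *
        (mult ρ (ψ : D.B → ℂ) * charDegree (ψ : D.B → ℂ)) = 8 * mult D.Theta χ := by
    rw [sum_mult_irr D.ch.psi8_irr (fun ψ => mult ρ (ψ : D.B → ℂ) * charDegree (ψ : D.B → ℂ)),
      hfrobT]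
    have hd : charDegree D.ch.psi8 = 8 := by
      apply charDegree_natCast
      rw [D.ch.psi8_one]
      norm_num
    show mult ρ D.ch.psi8 * charDegree D.ch.psi8 = 8 * mult ρ D.ch.psi8
    rw [hd, mul_comm]
  rw [Finset.sum_congr rfl h1, h2]

end Cfsg.Agent.U33
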