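import Mathlib
import Cfsg.Agent.Lib.U33.U33Defs
import Cfsg.Agent.Lib.Helper24.CharAlgebra
import Cfsg.Agent.Lib.Helper24.CharInduced
import Cfsg.Agent.Lib.Helper24.CharComplete
import Cfsg.Agent.Lib.Helper24.CharIntegral
import Cfsg.Agent.Lib.Helper12.CharNormTwo
import Cfsg.Agent.Lib.U33.U33HCDefs
import Cfsg.Agent.Lib.U33.U33HCMULT
import Cfsg.Agent.Lib.U33.U33HCINNER1
import Cfsg.Agent.Lib.U33.U33HCINNER2
import Cfsg.Agent.Lib.U33.U33HCGEN
import Cfsg.Agent.Lib.U33.U33HCRES

/-! S3670 piece U33-HC-AB: for k = 2,4,6, `IndL k = α + β` with degrees 7 and 21 (plans/S3670_plan.md, HC).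
Proved by helper27. -/

set_option autoImplicit false
set_option linter.style.haveILetI false
set_option linter.unusedSectionVars false

namespace Cfsg.Agent.U33

open Cfsg Cfsg.Agent.Helper24
open scoped ComplexConjugate

universe u

variable {G : Type u} [Group G] [Fintype G]

/-- the ordered version: if `IndL k = α + β` with `a(α) = 0`, `a(β) = 1` then the degrees are 7, 21. -/
theorem u33_hcab_key (D : HCData G) {k : ℕ} (hk : k = 2 ∨ k = 4 ∨ k = 6) {α β : G → ℂ}
    (hα : IsIrrCharacter G α) (hβ : IsIrrCharacter G β) (hne : α ≠ β)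
    (hsum : D.IndL k = α + β) (ha : mult D.Theta α = 0) (hb : mult D.Theta β = 1) :
    charDegree α = 7 ∧ charDegree β = 21 := by
  classical
  have hk8 : k < 8 := by omega
  have hcα := isCharacter_of_isIrrCharacter hα
  have hcβ := isCharacter_of_isIrrCharacter hβ
  have hj : ∀ j, j < 8 → mult (D.IndL j) α + mult (D.IndL j) β =
      (if j = k then 1 else 0) + (if 8 ∣ j + 3 * k then 1 else 0) := by
    intro j hj
    rw [← mult_add_right (isCharacter_IndL D j) hcα hcβ, ← hsum, mult_IndL_IndL D hj hk8]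
  have hkα : mult (D.IndL k) α = 1 := by
    rw [hsum, mult_add_left hcα hcβ hcα, mult_irr hα hα, mult_irr hβ hα, if_pos rfl,
      if_neg hne.symm]
  have hkβ : mult (D.IndL k) β = 1 := by
    rw [hsum, mult_add_left hcα hcβ hcβ, mult_irr hα hβ, mult_irr hβ hβ, if_pos rfl,
      if_neg hne]
  have hjz : ∀ j, j < 8 → j ≠ k → mult (D.IndL j) α = 0 ∧ mult (D.IndL j) β = 0 := by
    intro j hj8 hjk
    have h := hj j hj8
    rw [if_neg hjk, if_neg (by omega)] at h
    omega
  have hsumα : ∑ j ∈ Finset.range 8, mult (D.IndL j) α = 1 := by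
    rw [Finset.sum_eq_single k]
    · exact hkα
    · intro j hj hjk
      exact (hjz j (Finset.mem_range.mp hj) hjk).1
    · intro h
      exact absurd (Finset.mem_range.mpr hk8) h
  have hsumβ : ∑ j ∈ Finset.range 8, mult (D.IndL j) β = 1 := by
    rw [Finset.sum_eq_single k]
    · exact hkβ
    · intro j hj hjk
      exact (hjz j (Finset.mem_range.mp hj) hjk).2
    · intro h
      exact absurd (Finset.mem_range.mpr hk8) h
  obtain ⟨m, hm⟩ := degree_decomp D hα
  obtain ⟨m', hm'⟩ := degree_decomp D hβ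
  rw [hsumα, ha] at hm
  rw [hsumβ, hb] at hm'
  have hdeg : charDegree α + charDegree β = 28 := by
    have h28 := charDegree_IndL D k
    rw [hsum] at h28
    have h1 : (α + β) 1 = ((charDegree α + charDegree β : ℕ) : ℂ) := by
      rw [Pi.add_apply, irr_one_eq_charDegree hα, irr_one_eq_charDegree hβ]
      push_cast
      rfl
    rw [charDegree_natCast _ h1] at h28
    exact h28
  have hdα := degree_dvd D hα
  have hα1 : charDegree α ≠ 1 := by
    intro h1
    have htr := eq_triv_of_degree_one D hα h1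
    have h0 := (hjz 0 (by norm_num) (by omega)).1
    rw [htr, mult_IndL_zero_triv] at h0
    exact one_ne_zero h0
  have hmm : m + m' = 3 := by omega
  have hm3 : m ≤ 3 := by omega
  interval_cases m
  · exfalso
    apply hα1
    omega
  · constructor <;> omega
  · exfalso
    rw [hm] at hdα
    norm_num at hdα
  · exfalso
    rw [hm] at hdα
    norm_num at hdα

theorem exists_ab (D : HCData G) {k : ℕ} (hk : k = 2 ∨ k = 4 ∨ k = 6) :
    ∃ α β : G → ℂ, IsIrrCharacter G α ∧ IsIrrCharacter G β ∧ D.IndL k = α + β ∧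
      charDegree α = 7 ∧ charDegree β = 21 ∧ mult D.Theta α = 0 ∧ mult D.Theta β = 1 := by
  classical
  have hk8 : k < 8 := by omega
  have hC := isCharacter_IndL D k
  have hΘ := isCharacter_Theta D
  have hnorm : classInner (D.IndL k) (D.IndL k) = 2 := by
    rw [mult_spec hC hC, mult_IndL_IndL D hk8 hk8, if_pos rfl, if_pos (by omega)]
    norm_num
  obtain ⟨χ₁, χ₂, h1, h2, hne, hsum⟩ := Cfsg.Agent.Helper12.exists_two_irr_of_norm_two hC hnorm
  have hc1 := isCharacter_of_isIrrCharacter h1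
  have hc2 := isCharacter_of_isIrrCharacter h2
  have hT : mult D.Theta χ₁ + mult D.Theta χ₂ = 1 := by
    rw [← mult_add_right hΘ hc1 hc2, ← hsum, mult_comm hΘ hC, mult_IndL_Theta]
  have hcases : (mult D.Theta χ₁ = 0 ∧ mult D.Theta χ₂ = 1) ∨
      (mult D.Theta χ₁ = 1 ∧ mult D.Theta χ₂ = 0) := by omega
  rcases hcases with ⟨ha, hb⟩ | ⟨ha, hb⟩
  · obtain ⟨hd1, hd2⟩ := u33_hcab_key D hk h1 h2 hne hsum ha hb
    exact ⟨χ₁, χ₂, h1, h2, hsum, hd1, hd2, ha, hb⟩
  · have hsum' : D.IndL k = χ₂ + χ₁ := by rw [hsum, add_comm]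
    obtain ⟨hd1, hd2⟩ := u33_hcab_key D hk h2 h1 hne.symm hsum' hb ha
    exact ⟨χ₂, χ₁, h2, h1, hsum', hd1, hd2, hb, ha⟩

end Cfsg.Agent.U33
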