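import Mathlib
import Cfsg.Agent.Lib.U33.U33Defs
import Cfsg.Agent.Lib.Helper24.CharAlgebra
import Cfsg.Agent.Lib.Helper24.CharInduced
import Cfsg.Agent.Lib.Helper24.CharComplete
import Cfsg.Agent.Lib.Helper24.CharIntegral
import Cfsg.Agent.Lib.Helper12.CharNormTwo
import Cfsg.Agent.Lib.U33.U33HCDefs

/-! S3670 piece U33-HC-COUNT: the final arithmetic. -/

set_option autoImplicit false

namespace Cfsg.Agent.U33

open Cfsg Cfsg.Agent.Helper24
open scoped ComplexConjugate

universe u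

variable {G : Type u} [Group G] [Fintype G]

theorem count_arith {ι : Type*} [Fintype ι] (d a l : ι → ℕ)
    (h1 : ∑ i, d i ^ 2 = 6048) (h2 : ∑ i, a i ^ 2 = 9) (h3 : ∑ i, a i * d i = 224)
    (h4 : ∑ i, l i = 10) (h5 : ∑ i, l i ^ 2 = 10)
    (h6 : ∑ i, l i * d i ^ 2 = 3768) (h7 : ∑ i, l i * a i ^ 2 = 6)
    (h8 : ∑ i, l i * (a i * d i) = 146)
    (h9 : ∀ i, l i = 0 → ∃ m : ℕ, d i = 8 * a i + 6 * m) :
    ∃ i, l i = 0 ∧ a i = 0 := by
  classical
  -- l takes values in {0,1}
  have hl1 : ∀ i, l i ≤ 1 := by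
    have hle : ∀ i ∈ (Finset.univ : Finset ι), l i ≤ l i ^ 2 :=
      fun i _ => Nat.le_self_pow (by norm_num) _
    have heq : ∑ i, l i = ∑ i, l i ^ 2 := by rw [h4, h5]
    have := (Finset.sum_eq_sum_iff_of_le hle).mp heq
    intro i
    have hi := this i (Finset.mem_univ i)
    by_contra hcon
    push Not at hcon
    have : 2 * l i ≤ l i ^ 2 := by
      rw [sq]
      exact Nat.mul_le_mul_right _ hcon
    omega
  set R : Finset ι := Finset.univ.filter (fun i => l i = 0) with hR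
  have hsplit : ∀ f : ι → ℕ, ∑ i, f i = ∑ i, l i * f i + ∑ i ∈ R, f i := by
    intro f
    rw [hR, Finset.sum_filter, ← Finset.sum_add_distrib]
    refine Finset.sum_congr rfl fun i _ => ?_
    have := hl1 i
    by_cases h0 : l i = 0
    · rw [if_pos h0, h0]; ring
    · have h1' : l i = 1 := by omega
      rw [if_neg h0, h1']; ring
  have hRd : ∑ i ∈ R, d i ^ 2 = 2280 := by
    have := hsplit (fun i => d i ^ 2)
    omega
  have hRa : ∑ i ∈ R, a i ^ 2 = 3 := by
    have := hsplit (fun i => a i ^ 2)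
    omega
  have hRad : ∑ i ∈ R, a i * d i = 78 := by
    have := hsplit (fun i => a i * d i)
    omega
  by_contra hcon
  push Not at hcon
  choose! m hm using h9
  have hmemR : ∀ i ∈ R, l i = 0 := fun i hi => (Finset.mem_filter.mp hi).2
  have ha1 : ∀ i ∈ R, a i = 1 := by
    intro i hi
    have h0 := hcon i (hmemR i hi)
    have hle : a i ^ 2 ≤ ∑ j ∈ R, a j ^ 2 :=
      Finset.single_le_sum (f := fun j => a j ^ 2) (fun j _ => Nat.zero_le _) hi
    rw [hRa] at hle
    by_contra hne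
    have h2' : 2 ≤ a i := by omega
    have : 4 ≤ a i ^ 2 := by nlinarith
    omega
  have hcard : R.card = 3 := by
    have : ∑ i ∈ R, a i ^ 2 = ∑ _i ∈ R, 1 :=
      Finset.sum_congr rfl fun i hi => by rw [ha1 i hi]; norm_num
    rw [hRa] at this
    simp at this
    omega
  have hd : ∀ i ∈ R, d i = 8 + 6 * m i := by
    intro i hi
    rw [hm i (hmemR i hi), ha1 i hi]
  have hsm : ∑ i ∈ R, m i = 9 := by
    have e1 : ∑ i ∈ R, a i * d i = ∑ i ∈ R, (8 + 6 * m i) :=
      Finset.sum_congr rfl fun i hi => by rw [ha1 i hi, hd i hi, one_mul]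
    rw [hRad, Finset.sum_add_distrib, ← Finset.mul_sum] at e1
    simp only [Finset.sum_const, smul_eq_mul, hcard] at e1
    omega
  have hsm2 : ∑ i ∈ R, m i ^ 2 = 34 := by
    have e1 : ∑ i ∈ R, d i ^ 2 = ∑ i ∈ R, (64 + 96 * m i + 36 * m i ^ 2) :=
      Finset.sum_congr rfl fun i hi => by rw [hd i hi]; ring
    rw [hRd, Finset.sum_add_distrib, Finset.sum_add_distrib, ← Finset.mul_sum, ← Finset.mul_sum,
      hsm] at e1
    simp only [Finset.sum_const, smul_eq_mul, hcard] at e1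
    omega
  have hpar : 2 ∣ ∑ i ∈ R, (m i ^ 2 + m i) := by
    apply Finset.dvd_sum
    intro i _
    have : m i ^ 2 + m i = m i * (m i + 1) := by ring
    rw [this]
    exact Nat.even_mul_succ_self (m i) |>.two_dvd
  rw [Finset.sum_add_distrib, hsm, hsm2] at hpar
  omega

end Cfsg.Agent.U33
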