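import Mathlib
import Cfsg.Agent.Lib.U33.U33Defs
import Cfsg.Agent.Lib.Helper24.CharAlgebra
import Cfsg.Agent.Lib.Helper24.CharInduced
import Cfsg.Agent.Lib.Helper24.CharComplete
import Cfsg.Agent.Lib.Helper24.CharIntegral
import Cfsg.Agent.Lib.Helper12.CharNormTwo
import Cfsg.Agent.Lib.U33.U33HCDefs
import Cfsg.Agent.Lib.U33.U33HCMULT
import Cfsg.Agent.Lib.U33.U33HCINNER1
import Cfsg.Agent.Lib.U33.U33HCINNER2

/-! S3670 piece U33-HC-PS: `IndL 1 = IndL 5`, `IndL 3 = IndL 7` are irreducible (norm one). -/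

set_option autoImplicit false

namespace Cfsg.Agent.U33

open Cfsg Cfsg.Agent.Helper24
open scoped ComplexConjugate

universe u

variable {G : Type u} [Group G] [Fintype G]

theorem u33_irr_of_mult_one {Φ : G → ℂ} (hΦ : IsCharacter G Φ) (h : mult Φ Φ = 1) :
    IsIrrCharacter G Φ := by
  classical
  letI : Fintype (IrrCharacter G) := irrFintype
  apply isIrrCharacter_of_classInner_self_eq_one hΦ
  rw [mult_spec hΦ hΦ, h]
  simp

theorem u33_irr_IndL_odd (D : HCData G) {k : ℕ} (hk : k < 8) (hodd : k % 2 = 1) :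
    IsIrrCharacter G (D.IndL k) := by
  apply u33_irr_of_mult_one (isCharacter_IndL D k)
  rw [mult_IndL_IndL D hk hk, if_pos rfl, if_neg (by omega)]

theorem irr_IndL_one (D : HCData G) : IsIrrCharacter G (D.IndL 1) :=
  u33_irr_IndL_odd D (by norm_num) (by norm_num)

theorem irr_IndL_three (D : HCData G) : IsIrrCharacter G (D.IndL 3) :=
  u33_irr_IndL_odd D (by norm_num) (by norm_num)

theorem IndL_five (D : HCData G) : D.IndL 5 = D.IndL 1 := by
  have h5 : IsIrrCharacter G (D.IndL 5) := u33_irr_IndL_odd D (by norm_num) (by norm_num)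
  have h := mult_IndL_IndL D (k := 5) (k' := 1) (by norm_num) (by norm_num)
  rw [mult_irr h5 (irr_IndL_one D)] at h
  by_contra hne
  rw [if_neg hne] at h
  norm_num at h

theorem IndL_seven (D : HCData G) : D.IndL 7 = D.IndL 3 := by
  have h7 : IsIrrCharacter G (D.IndL 7) := u33_irr_IndL_odd D (by norm_num) (by norm_num)
  have h := mult_IndL_IndL D (k := 7) (k' := 3) (by norm_num) (by norm_num)
  rw [mult_irr h7 (irr_IndL_three D)] at h
  by_contra hne
  rw [if_neg hne] at h
  norm_num at h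

end Cfsg.Agent.U33
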