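import Mathlib
import Cfsg.Agent.Lib.U33.U33Defs
import Cfsg.Agent.Lib.Helper24.CharAlgebra
import Cfsg.Agent.Lib.Helper24.CharInduced
import Cfsg.Agent.Lib.Helper24.CharComplete
import Cfsg.Agent.Lib.Helper24.CharIntegral
import Cfsg.Agent.Lib.Helper12.CharNormTwo
import Cfsg.Agent.Lib.U33.U33HCDefs
import Cfsg.Agent.Lib.U33.U33HCMULT
import Cfsg.Agent.Lib.U33.U33HCINNER1
import Cfsg.Agent.Lib.U33.U33HCINNER2
import Cfsg.Agent.Lib.U33.U33HCGEN

/-! S3670 piece U33-HC-ST: `IndL 0 = 1 + St`, `St` irreducible of degree 27 with `mult Theta St = 1`. -/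

set_option autoImplicit false

namespace Cfsg.Agent.U33

open Cfsg Cfsg.Agent.Helper24
open scoped ComplexConjugate

universe u

variable {G : Type u} [Group G] [Fintype G]

theorem u33_st_aux (D : HCData G) {St : G → ℂ} (hSt : IsIrrCharacter G St)
    (h0 : D.IndL 0 = triv G + St) : charDegree St = 27 ∧ mult D.Theta St = 1 := by
  have hcS := isCharacter_of_isIrrCharacter hSt
  have hct := isCharacter_of_isIrrCharacter (isIrrCharacter_triv (G := G))
  constructor
  · have h1 := char_one_eq_charDegree (isCharacter_IndL D 0)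
    rw [charDegree_IndL, h0] at h1
    apply charDegree_natCast
    have h2 : (triv G + St) 1 = 1 + St 1 := rfl
    rw [h2] at h1
    have h3 : St 1 = ((28 : ℕ) : ℂ) - 1 := by rw [← h1]; ring
    rw [h3]
    norm_num
  · have h1 := mult_IndL_Theta D 0
    rw [h0, mult_add_left hct hcS (isCharacter_Theta D),
      mult_comm hct (isCharacter_Theta D), mult_Theta_triv, zero_add] at h1
    rw [mult_comm (isCharacter_Theta D) hcS]
    exact h1

theorem exists_St (D : HCData G) : ∃ St : G → ℂ, IsIrrCharacter G St ∧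
    D.IndL 0 = triv G + St ∧ charDegree St = 27 ∧ mult D.Theta St = 1 := by
  classical
  have hc0 := isCharacter_IndL D 0
  have hn : classInner (D.IndL 0) (D.IndL 0) = 2 := by
    rw [mult_spec hc0 hc0, mult_IndL_IndL D (by norm_num) (by norm_num)]
    norm_num
  obtain ⟨χ₁, χ₂, h1, h2, hne, hsum⟩ := Cfsg.Agent.Helper12.exists_two_irr_of_norm_two hc0 hn
  have hc1 := isCharacter_of_isIrrCharacter h1
  have hc2 := isCharacter_of_isIrrCharacter h2
  have htr : IsIrrCharacter G (triv G) := isIrrCharacter_triv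
  have hct := isCharacter_of_isIrrCharacter htr
  have hm := mult_IndL_zero_triv D
  rw [hsum, mult_add_left hc1 hc2 hct, mult_irr h1 htr, mult_irr h2 htr] at hm
  by_cases e1 : χ₁ = triv G
  · have h0 : D.IndL 0 = triv G + χ₂ := by rw [hsum, e1]
    exact ⟨χ₂, h2, h0, u33_st_aux D h2 h0⟩
  · by_cases e2 : χ₂ = triv G
    · have h0 : D.IndL 0 = triv G + χ₁ := by rw [hsum, e2, add_comm]
      exact ⟨χ₁, h1, h0, u33_st_aux D h1 h0⟩
    · rw [if_neg e1, if_neg e2] at hm
      norm_num at hm

end Cfsg.Agent.U33
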