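import Mathlib
import Cfsg.Agent.Lib.U33.U33Defs
import Cfsg.Agent.Lib.Helper24.CharAlgebra
import Cfsg.Agent.Lib.Helper24.CharInduced
import Cfsg.Agent.Lib.Helper24.CharComplete
import Cfsg.Agent.Lib.Helper24.CharIntegral
import Cfsg.Agent.Lib.Helper12.CharNormTwo
import Cfsg.Agent.Lib.U33.U33HCDefs
import Cfsg.Agent.Lib.U33.U33HCMULT
import Cfsg.Agent.Lib.U33.U33HCLAM
import Cfsg.Agent.Lib.U33.U33HCTPAIR
import Cfsg.Agent.Lib.U33.U33HCINNER1
import Cfsg.Agent.Lib.U33.U33HCINNER2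
import Cfsg.Agent.Lib.U33.U33HCGEN
import Cfsg.Agent.Lib.U33.U33HCRES
import Cfsg.Agent.Lib.U33.U33HCPS
import Cfsg.Agent.Lib.U33.U33HCST
import Cfsg.Agent.Lib.U33.U33HCAB
import Cfsg.Agent.Lib.U33.U33HCCOUNT

/-! S3670 module U33-HC: the count in `G` (see plans/S3670_plan.md, section HC): assembly (helper13). -/

set_option autoImplicit false

namespace Cfsg.Agent.U33

open Cfsg Cfsg.Agent.Helper24
open scoped ComplexConjugate

universe u

variable {G : Type u} [Group G] [Fintype G]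

theorem hc_main (D : HCData G) :
    (∃ d ∈ charDegrees G, 6 ∣ d) ∧ (∃ d ∈ charDegrees G, 14 ∣ d) ∧
      (∃ d ∈ charDegrees G, 21 ∣ d) := by
  classical
  letI : Fintype (IrrCharacter G) := irrFintype
  obtain ⟨St, hSt, hSt0, hStd, hSta⟩ := exists_St D
  obtain ⟨α2, β2, hα2, hβ2, h2, hα2d, hβ2d, hα2a, hβ2a⟩ := exists_ab D (k := 2) (Or.inl rfl)
  obtain ⟨α4, β4, hα4, hβ4, h4, hα4d, hβ4d, hα4a, hβ4a⟩ := exists_ab D (k := 4) (Or.inr (Or.inl rfl))
  obtain ⟨α6, β6, hα6, hβ6, h6, hα6d, hβ6d, hα6a, hβ6a⟩ := exists_ab D (k := 6) (Or.inr (Or.inr rfl))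
  have hX1 := irr_IndL_one D
  have hX3 := irr_IndL_three D
  have htriv : IsIrrCharacter G (triv G) := isIrrCharacter_triv
  refine ⟨?_, ⟨28, ⟨⟨D.IndL 1, hX1⟩, charDegree_IndL D 1⟩, by norm_num⟩,
    ⟨21, ⟨⟨β2, hβ2⟩, hβ2d⟩, dvd_refl _⟩⟩
  -- the count
  have hc := fun χ => isCharacter_of_isIrrCharacter (G := G) (χ := χ)
  set PP : G → ℂ := ∑ k ∈ KK, D.IndL k with hPd
  have hPc : IsCharacter G PP := isCharacter_sum _ _ (fun k _ => isCharacter_IndL D k)
  let d : IrrCharacter G → ℕ := fun χ => charDegree (χ : G → ℂ)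
  let a : IrrCharacter G → ℕ := fun χ => mult D.Theta (χ : G → ℂ)
  let l : IrrCharacter G → ℕ := fun χ => mult PP (χ : G → ℂ)
  have hl : ∀ χ : IrrCharacter G, l χ = ∑ k ∈ KK, mult (D.IndL k) (χ : G → ℂ) := fun χ =>
    mult_sum_left KK _ (fun k _ => isCharacter_IndL D k) (hc _ χ.2)
  -- the key summation formula
  have hsum : ∀ f : IrrCharacter G → ℕ, ∑ χ, l χ * f χ =
      f ⟨triv G, htriv⟩ + f ⟨St, hSt⟩ + f ⟨D.IndL 1, hX1⟩ + f ⟨D.IndL 3, hX3⟩ +
        (f ⟨α2, hα2⟩ + f ⟨β2, hβ2⟩) + (f ⟨α4, hα4⟩ + f ⟨β4, hβ4⟩) + (f ⟨α6, hα6⟩ + f ⟨β6, hβ6⟩) := by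
    intro f
    have hpair : ∀ {α β : G → ℂ} (hα : IsIrrCharacter G α) (hβ : IsIrrCharacter G β),
        ∑ χ : IrrCharacter G, mult (α + β) (χ : G → ℂ) * f χ = f ⟨α, hα⟩ + f ⟨β, hβ⟩ := by
      intro α β hα hβ
      rw [← sum_mult_irr hα f, ← sum_mult_irr hβ f, ← Finset.sum_add_distrib]
      refine Finset.sum_congr rfl fun χ _ => ?_
      rw [mult_add_left (hc _ hα) (hc _ hβ) (hc _ χ.2), add_mul]
    simp only [hl, Finset.sum_mul]
    rw [Finset.sum_comm]
    simp only [KK]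
    rw [Finset.sum_insert (by decide), Finset.sum_insert (by decide), Finset.sum_insert (by decide),
      Finset.sum_insert (by decide), Finset.sum_insert (by decide), Finset.sum_singleton]
    rw [hSt0, h2, h4, h6, hpair htriv hSt, hpair hα2 hβ2, hpair hα4 hβ4, hpair hα6 hβ6,
      sum_mult_irr hX1 f, sum_mult_irr hX3 f]
    ring
  have h1 : ∑ χ, d χ ^ 2 = 6048 := by
    rw [← D.card_G]; exact sum_charDegree_sq
  have h2' : ∑ χ, a χ ^ 2 = 9 := by
    have := sum_mult_mul (isCharacter_Theta D) (isCharacter_Theta D)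
    rw [mult_Theta_Theta] at this
    rw [← this]
    exact Finset.sum_congr rfl fun χ _ => by simp only [a]; ring
  have h3 : ∑ χ, a χ * d χ = 224 := by
    have := sum_mult_degree (isCharacter_Theta D)
    rw [charDegree_Theta] at this
    exact this
  have h4' : ∑ χ, l χ = 10 := by
    have := hsum (fun _ => 1)
    simpa using this
  have h5 : ∑ χ, l χ ^ 2 = 10 := by
    have := sum_mult_mul hPc hPc
    have h10 : mult PP PP = 10 := by
      rw [hPd, mult_sum_left KK _ (fun k _ => isCharacter_IndL D k) (isCharacter_sum _ _ (fun k _ => isCharacter_IndL D k))]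
      have : ∀ k ∈ KK, mult (D.IndL k) (∑ k' ∈ KK, D.IndL k') =
          ∑ k' ∈ KK, ((if k = k' then 1 else 0) + (if 8 ∣ k + 3 * k' then 1 else 0)) := by
        intro k hk
        rw [mult_sum_right KK _ (fun k _ => isCharacter_IndL D k) (isCharacter_IndL D k)]
        refine Finset.sum_congr rfl fun k' hk' => ?_
        have hk8 : k < 8 := by
          simp only [KK, Finset.mem_insert, Finset.mem_singleton] at hk; omega
        have hk8' : k' < 8 := by
          simp only [KK, Finset.mem_insert, Finset.mem_singleton] at hk'; omega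
        exact mult_IndL_IndL D hk8 hk8'
      rw [Finset.sum_congr rfl this]
      decide
    rw [h10] at this
    rw [← this]
    exact Finset.sum_congr rfl fun χ _ => by simp only [l]; ring
  have h6' : ∑ χ, l χ * d χ ^ 2 = 3768 := by
    rw [hsum (fun χ => d χ ^ 2)]
    simp only [d]
    have ht : charDegree (triv G) = 1 := by
      unfold charDegree triv; simp
    rw [ht, hStd, charDegree_IndL, charDegree_IndL, hα2d, hβ2d, hα4d, hβ4d, hα6d, hβ6d]
    norm_num
  have h7 : ∑ χ, l χ * a χ ^ 2 = 6 := by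
    rw [hsum (fun χ => a χ ^ 2)]
    simp only [a]
    rw [mult_Theta_triv, hSta, hα2a, hβ2a, hα4a, hβ4a, hα6a, hβ6a,
      mult_comm (isCharacter_Theta D) (isCharacter_IndL D 1), mult_IndL_Theta,
      mult_comm (isCharacter_Theta D) (isCharacter_IndL D 3), mult_IndL_Theta]
    norm_num
  have h8 : ∑ χ, l χ * (a χ * d χ) = 146 := by
    rw [hsum (fun χ => a χ * d χ)]
    simp only [a, d]
    rw [mult_Theta_triv, hSta, hα2a, hβ2a, hα4a, hβ4a, hα6a, hβ6a,
      mult_comm (isCharacter_Theta D) (isCharacter_IndL D 1), mult_IndL_Theta,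
      mult_comm (isCharacter_Theta D) (isCharacter_IndL D 3), mult_IndL_Theta,
      hStd, charDegree_IndL, charDegree_IndL, hβ2d, hβ4d, hβ6d]
    norm_num
  have h9 : ∀ χ, l χ = 0 → ∃ m : ℕ, d χ = 8 * a χ + 6 * m := by
    intro χ hχ
    obtain ⟨m, hm⟩ := degree_decomp D χ.2
    refine ⟨m, ?_⟩
    rw [hl] at hχ
    have hz : ∀ k ∈ KK, mult (D.IndL k) (χ : G → ℂ) = 0 := by
      intro k hk
      exact (Finset.sum_eq_zero_iff.mp hχ) k hk
    have e0 := hz 0 (by decide)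
    have e1 := hz 1 (by decide)
    have e2 := hz 2 (by decide)
    have e3 := hz 3 (by decide)
    have e4 := hz 4 (by decide)
    have e6 := hz 6 (by decide)
    have e5 : mult (D.IndL 5) (χ : G → ℂ) = 0 := by rw [IndL_five]; exact e1
    have e7 : mult (D.IndL 7) (χ : G → ℂ) = 0 := by rw [IndL_seven]; exact e3
    simp only [d, a]
    rw [hm]
    simp only [Finset.sum_range_succ, Finset.sum_range_zero, e0, e1, e2, e3, e4, e5, e6, e7]
    ring
  obtain ⟨χ, hχl, hχa⟩ := count_arith d a l h1 h2' h3 h4' h5 h6' h7 h8 h9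
  obtain ⟨m, hm⟩ := h9 χ hχl
  refine ⟨d χ, ⟨χ, rfl⟩, ?_⟩
  rw [hm, hχa]
  exact ⟨m, by ring⟩

end Cfsg.Agent.U33
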