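import Mathlib
import Cfsg.Agent.Lib.U33.U33Defs
import Cfsg.Agent.Lib.Helper24.CharLinear
import Cfsg.Agent.Lib.Helper24.CharInduced
import Cfsg.Agent.Lib.Helper24.Cd2Ker

set_option autoImplicit false
set_option linter.unusedSectionVars false
set_option linter.style.haveILetI false

namespace Cfsg.Agent.U33

open Cfsg

/-- The left component of a conjugate of an element of the (abelian) kernel. -/
theorem u33_hside_conj_left {N T : Type} [CommGroup N] [Group T] (φ : T →* MulAut N)
    (g : N ⋊[φ] T) (n : N) :
    (g * SemidirectProduct.inl n * g⁻¹).left = φ g.right n := by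
  simp only [SemidirectProduct.mul_left, SemidirectProduct.mul_right, SemidirectProduct.inv_left,
    SemidirectProduct.left_inl, SemidirectProduct.right_inl, mul_one]
  rw [← MulAut.mul_apply, ← map_mul, mul_inv_cancel, map_one, MulAut.one_apply]
  rw [mul_comm g.left, mul_assoc, mul_inv_cancel, mul_one]

/-- General lemma: an abelian group `N` with an action of `T` and a linear character of `N`
with trivial stabiliser in `T` give an irreducible character of degree `|T|` of `N ⋊ T`. -/
theorem u33_hside_general {N T : Type} [CommGroup N] [Finite N] [Group T] [Finite T]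
    (φ : T →* MulAut N) (ξ : N →* ℂ)
    (hξ : ∀ t : T, t ≠ 1 → ∃ n : N, ξ (φ t n) ≠ ξ n) :
    ∃ χ : IrrCharacter (N ⋊[φ] T), charDegree (χ : N ⋊[φ] T → ℂ) = Nat.card T := by
  classical
  have hfin : Finite (N ⋊[φ] T) := Finite.of_equiv _ SemidirectProduct.equivProd.symm
  letI : Fintype (N ⋊[φ] T) := Fintype.ofFinite _
  set K : Subgroup (N ⋊[φ] T) := (SemidirectProduct.rightHom : N ⋊[φ] T →* T).ker with hK
  have hKn : K.Normal := MonoidHom.normal_ker _
  have hKmem : ∀ x : N ⋊[φ] T, x ∈ K ↔ x.right = 1 := by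
    intro x
    rw [hK, MonoidHom.mem_ker, SemidirectProduct.rightHom_eq_right]
  -- the projection `K →* N`
  let pr : K →* N :=
    { toFun := fun h => h.1.left
      map_one' := rfl
      map_mul' := by
        intro a b
        have ha : a.1.right = 1 := (hKmem a.1).1 a.2
        show (a.1 * b.1).left = a.1.left * b.1.left
        rw [SemidirectProduct.mul_left, ha, map_one, MulAut.one_apply] }
  let f : K →* ℂˣ := (ξ.comp pr).toHomUnits
  have hf : ∀ h : K, ((f h : ℂˣ) : ℂ) = ξ h.1.left := fun h => rfl
  have hθ : IsIrrCharacter K (fun h => ((f h : ℂˣ) : ℂ)) :=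
    Cfsg.Agent.Helper24.isIrrCharacter_of_monoidHom f
  have hirr : IsIrrCharacter (N ⋊[φ] T) (indFun K (fun h => ((f h : ℂˣ) : ℂ))) := by
    apply Cfsg.Agent.Helper24.Cd2.isIrr_indFun_of_inertia K hθ
    intro g hg heq
    have hg1 : g.right ≠ 1 := by
      intro h1
      exact hg ((hKmem g).2 h1)
    obtain ⟨n, hn⟩ := hξ g.right hg1
    have hmem : (SemidirectProduct.inl n : N ⋊[φ] T) ∈ K :=
      (hKmem _).2 (SemidirectProduct.right_inl n)
    have h2 := congrFun heq ⟨SemidirectProduct.inl n, hmem⟩
    rw [Cfsg.Agent.Helper5.conjFun_apply, hf, hf] at h2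
    apply hn
    have h3 : (g * SemidirectProduct.inl n * g⁻¹).left = φ g.right n :=
      u33_hside_conj_left φ g n
    simpa [h3] using h2
  refine ⟨⟨_, hirr⟩, ?_⟩
  show charDegree (indFun K (fun h => ((f h : ℂˣ) : ℂ))) = Nat.card T
  unfold charDegree
  rw [Cfsg.Agent.Helper24.indFun_one]
  have hidx : K.index = Nat.card T := by
    rw [hK, Subgroup.index_ker,
      MonoidHom.range_eq_top.mpr SemidirectProduct.rightHom_surjective]
    exact Nat.card_congr Subgroup.topEquiv.toEquiv
  rw [hidx, map_one, Units.val_one, mul_one, Complex.natCast_re, Nat.floor_natCast]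

end Cfsg.Agent.U33
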