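import Mathlib
import Cfsg.Agent.Lib.U33.U33Defs
import Cfsg.Agent.Lib.U33.U33HSIDEGen

/-! S3670 piece U33-HSIDE: a solvable group of order 6048 with an irreducible character of degree divisible by 42.
(Add whatever `Cfsg.Agent.Lib.*` imports you need; extra files go to `Cfsg/Agent/Lib/U33/U33HSIDE*.lean`.)

Witness: `H = N ⋊ T`, `N = (Z/2)^3 × Z/9 × Z/2` (order 144), `T = ⟨τ⟩` cyclic of order 42,
`τ = (t1, t2, id)` with `t1` of order 7 on `(Z/2)^3` and `t2 = (2 * ·)` of order 6 on `Z/9`.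
The linear character `ξ(a, x, c) = χ₂(a.1) χ₉(x)` of `N` has trivial stabiliser in `T`, so
the induced character is irreducible of degree 42 (`u33_hside_general`). -/

set_option autoImplicit false
set_option linter.unusedSectionVars false
set_option linter.style.haveILetI false

namespace Cfsg.Agent.U33

open Cfsg

/-- `(Z/2)^3`. -/
abbrev U33HsA1 : Type := ZMod 2 × ZMod 2 × ZMod 2

/-- The abelian normal subgroup, additively. -/
abbrev U33HsAA : Type := U33HsA1 × ZMod 9 × ZMod 2

/-- An automorphism of order 7 of `(Z/2)^3`. -/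
def u33HsT1 (a : U33HsA1) : U33HsA1 := (a.2.2, a.1 + a.2.2, a.2.1)

/-- Its inverse. -/
def u33HsT1inv (a : U33HsA1) : U33HsA1 := (a.2.1 + a.1, a.2.2, a.1)

/-- An automorphism of order 6 of `Z/9`. -/
def u33HsT2 (x : ZMod 9) : ZMod 9 := 2 * x

/-- Its inverse. -/
def u33HsT2inv (x : ZMod 9) : ZMod 9 := 5 * x

/-- The combined map on `AA`. -/
def u33HsTf (m : U33HsAA) : U33HsAA := (u33HsT1 m.1, u33HsT2 m.2.1, m.2.2)

/-- Its inverse. -/
def u33HsTfinv (m : U33HsAA) : U33HsAA := (u33HsT1inv m.1, u33HsT2inv m.2.1, m.2.2)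

theorem u33_hside_t1_left : ∀ a : U33HsA1, u33HsT1inv (u33HsT1 a) = a := by decide

theorem u33_hside_t1_right : ∀ a : U33HsA1, u33HsT1 (u33HsT1inv a) = a := by decide

theorem u33_hside_t2_left : ∀ x : ZMod 9, u33HsT2inv (u33HsT2 x) = x := by decide

theorem u33_hside_t2_right : ∀ x : ZMod 9, u33HsT2 (u33HsT2inv x) = x := by decide

theorem u33_hside_t1_add : ∀ a b : U33HsA1, u33HsT1 (a + b) = u33HsT1 a + u33HsT1 b := by
  decide

theorem u33_hside_t2_add (x y : ZMod 9) : u33HsT2 (x + y) = u33HsT2 x + u33HsT2 y := by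
  unfold u33HsT2
  ring

/-- The automorphism `τ` of `AA`. -/
def u33HsTau : U33HsAA ≃+ U33HsAA where
  toFun := u33HsTf
  invFun := u33HsTfinv
  left_inv := by
    intro m
    unfold u33HsTf u33HsTfinv
    simp only [u33_hside_t1_left, u33_hside_t2_left]
  right_inv := by
    intro m
    unfold u33HsTf u33HsTfinv
    simp only [u33_hside_t1_right, u33_hside_t2_right]
  map_add' := by
    intro m m'
    unfold u33HsTf
    simp only [Prod.fst_add, Prod.snd_add, u33_hside_t1_add, u33_hside_t2_add, Prod.mk_add_mk]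

/-- The abelian normal subgroup. -/
abbrev U33HsN : Type := Multiplicative U33HsAA

/-- `τ` as a multiplicative automorphism. -/
def u33HsTau' : MulAut U33HsN := AddEquiv.toMultiplicative u33HsTau

theorem u33_hside_tau_pow (k : ℕ) (m : U33HsN) :
    (u33HsTau' ^ k) m = Multiplicative.ofAdd (u33HsTf^[k] (Multiplicative.toAdd m)) := by
  induction k with
  | zero => rfl
  | succ k ih =>
    rw [pow_succ', MulAut.mul_apply, ih, Function.iterate_succ_apply']
    rfl

theorem u33_hside_tf_iter (k : ℕ) (m : U33HsAA) :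
    u33HsTf^[k] m = (u33HsT1^[k] m.1, u33HsT2^[k] m.2.1, m.2.2) := by
  induction k with
  | zero => rfl
  | succ k ih =>
    rw [Function.iterate_succ_apply', ih, Function.iterate_succ_apply',
      Function.iterate_succ_apply']
    rfl

/-- Kernel-checked: for `0 < k < 42` the `k`-th power moves the first coordinate functional of
`(Z/2)^3` or the element `1` of `Z/9`. -/
theorem u33_hside_dec1 : ∀ k : Fin 42, k ≠ 0 →
    (∃ a : U33HsA1, (u33HsT1^[k.val] a).1 ≠ a.1) ∨ u33HsT2^[k.val] 1 ≠ 1 := by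
  decide

theorem u33_hside_dec2 : ∀ a : U33HsA1, u33HsT1^[42] a = a := by decide

theorem u33_hside_dec3 : ∀ x : ZMod 9, u33HsT2^[42] x = x := by decide

theorem u33_hside_tau_pow_42 : u33HsTau' ^ 42 = 1 := by
  apply MulEquiv.ext
  intro m
  rw [u33_hside_tau_pow, u33_hside_tf_iter, u33_hside_dec2, u33_hside_dec3]
  rfl

/-- The linear character `ξ` of `N` (as a monoid hom to `ℂ`). -/
noncomputable def u33HsXi : U33HsN →* ℂ :=
  ((ZMod.stdAddChar (N := 2)).toMonoidHom.comp
      (AddMonoidHom.toMultiplicative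
        ((AddMonoidHom.fst (ZMod 2) (ZMod 2 × ZMod 2)).comp
          (AddMonoidHom.fst U33HsA1 (ZMod 9 × ZMod 2))))) *
    ((ZMod.stdAddChar (N := 9)).toMonoidHom.comp
      (AddMonoidHom.toMultiplicative
        ((AddMonoidHom.fst (ZMod 9) (ZMod 2)).comp
          (AddMonoidHom.snd U33HsA1 (ZMod 9 × ZMod 2)))))

theorem u33_hside_xi_apply (m : U33HsAA) :
    u33HsXi (Multiplicative.ofAdd m) =
      ZMod.stdAddChar (N := 2) m.1.1 * ZMod.stdAddChar (N := 9) m.2.1 := rfl

/-- The character `ξ` has trivial stabiliser. -/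
theorem u33_hside_moves (k : ℕ) (hk0 : k ≠ 0) (hk : k < 42) :
    ∃ n : U33HsN, u33HsXi ((u33HsTau' ^ k) n) ≠ u33HsXi n := by
  have h := u33_hside_dec1 ⟨k, hk⟩ (by
    intro h
    apply hk0
    exact congrArg Fin.val h)
  have hz1 : ∀ j : ℕ, u33HsT1^[j] (0 : U33HsA1) = 0 := by
    intro j
    exact Function.iterate_fixed (by decide) j
  have hz2 : ∀ j : ℕ, u33HsT2^[j] (0 : ZMod 9) = 0 := by
    intro j
    exact Function.iterate_fixed (by decide) j
  rcases h with ⟨a, ha⟩ | h2
  · refine ⟨Multiplicative.ofAdd ((a, 0, 0) : U33HsAA), ?_⟩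
    rw [u33_hside_tau_pow, toAdd_ofAdd, u33_hside_tf_iter, u33_hside_xi_apply,
      u33_hside_xi_apply]
    simp only [hz2]
    intro heq
    apply ha
    have h9 : (ZMod.stdAddChar (N := 9)) (0 : ZMod 9) ≠ 0 := by
      rw [AddChar.map_zero_eq_one]
      exact one_ne_zero
    exact ZMod.injective_stdAddChar (mul_right_cancel₀ h9 heq)
  · refine ⟨Multiplicative.ofAdd (((0 : U33HsA1), (1 : ZMod 9), (0 : ZMod 2)) : U33HsAA), ?_⟩
    rw [u33_hside_tau_pow, toAdd_ofAdd, u33_hside_tf_iter, u33_hside_xi_apply,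
      u33_hside_xi_apply]
    simp only [hz1]
    intro heq
    apply h2
    have h2' : (ZMod.stdAddChar (N := 2)) ((0 : U33HsA1).1) ≠ 0 := by
      show (ZMod.stdAddChar (N := 2)) (0 : ZMod 2) ≠ 0
      rw [AddChar.map_zero_eq_one]
      exact one_ne_zero
    exact ZMod.injective_stdAddChar (mul_left_cancel₀ h2' heq)

theorem u33_hside_orderOf : orderOf u33HsTau' = 42 := by
  have hdvd : orderOf u33HsTau' ∣ 42 := orderOf_dvd_of_pow_eq_one u33_hside_tau_pow_42
  have hle : orderOf u33HsTau' ≤ 42 := Nat.le_of_dvd (by norm_num) hdvd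
  have hpos : 0 < orderOf u33HsTau' := Nat.pos_of_dvd_of_pos hdvd (by norm_num)
  by_contra hne
  have hlt : orderOf u33HsTau' < 42 := lt_of_le_of_ne hle hne
  obtain ⟨n, hn⟩ := u33_hside_moves (orderOf u33HsTau') hpos.ne' hlt
  apply hn
  rw [pow_orderOf_eq_one, MulAut.one_apply]

theorem exists_H : ∃ (H : Type) (_ : Group H) (_ : Fintype H), Group.IsSolvable H ∧
    Nat.card H = 6048 ∧ ∃ d ∈ charDegrees H, 42 ∣ d := by
  classical
  let T : Subgroup (MulAut U33HsN) := Subgroup.zpowers u33HsTau'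
  have hTcard : Nat.card T = 42 := by
    rw [Nat.card_zpowers, u33_hside_orderOf]
  have hTfin : Finite T := Nat.finite_of_card_ne_zero (by rw [hTcard]; norm_num)
  have hHfin : Finite (U33HsN ⋊[T.subtype] T) :=
    Finite.of_equiv _ SemidirectProduct.equivProd.symm
  refine ⟨U33HsN ⋊[T.subtype] T, inferInstance, Fintype.ofFinite _, ?_, ?_, ?_⟩
  · -- solvable
    have hN : Group.IsSolvable U33HsN := Group.isSolvable_of_comm (fun a b => mul_comm a b)
    have hT : Group.IsSolvable T := by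
      have hc : ∀ a b : T, a * b = b * a := by
        intro a b
        obtain ⟨i, hi⟩ := Subgroup.mem_zpowers_iff.mp a.2
        obtain ⟨j, hj⟩ := Subgroup.mem_zpowers_iff.mp b.2
        apply Subtype.ext
        rw [Subgroup.coe_mul, Subgroup.coe_mul, ← hi, ← hj, ← zpow_add, ← zpow_add, add_comm]
      exact Group.isSolvable_of_comm hc
    exact Group.isSolvable_of_ker_le_range (SemidirectProduct.inl : U33HsN →* U33HsN ⋊[T.subtype] T)
      (SemidirectProduct.rightHom : U33HsN ⋊[T.subtype] T →* T)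
      (le_of_eq SemidirectProduct.range_inl_eq_ker_rightHom.symm)
  · rw [SemidirectProduct.card, hTcard]
    have : Nat.card U33HsN = 144 := by
      rw [Nat.card_eq_fintype_card]
      rfl
    rw [this]
  · have hξ : ∀ t : T, t ≠ 1 → ∃ n : U33HsN, u33HsXi (T.subtype t n) ≠ u33HsXi n := by
      intro t ht
      obtain ⟨i, hi⟩ := Subgroup.mem_zpowers_iff.mp t.2
      have h0 := zpow_mod_orderOf u33HsTau' i
      rw [u33_hside_orderOf] at h0
      have h1 : u33HsTau' ^ (i % (42 : ℤ)) = (t : MulAut U33HsN) := by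
        rw [← hi]
        exact_mod_cast h0
      have hnn : 0 ≤ i % (42 : ℤ) := Int.emod_nonneg _ (by norm_num)
      have hlt : i % (42 : ℤ) < 42 := Int.emod_lt_of_pos _ (by norm_num)
      obtain ⟨k, hk⟩ := Int.eq_ofNat_of_zero_le hnn
      rw [hk, zpow_natCast] at h1
      have hk42 : k < 42 := by omega
      have hk0 : k ≠ 0 := by
        intro h0
        apply ht
        apply Subtype.ext
        rw [← h1, h0, pow_zero]
        rfl
      obtain ⟨n, hn⟩ := u33_hside_moves k hk0 hk42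
      refine ⟨n, ?_⟩
      rw [Subgroup.coe_subtype, ← h1]
      exact hn
    obtain ⟨χ, hχ⟩ := u33_hside_general T.subtype u33HsXi hξ
    refine ⟨Nat.card T, ⟨χ, hχ⟩, ?_⟩
    rw [hTcard]

end Cfsg.Agent.U33
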