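import Mathlib
import Cfsg.Agent.Lib.U33.U33Defs
import Cfsg.Agent.Lib.Helper24.CharInduced

/-! S3670 module U33-MK, part (a): sums over a double coset `BwB` (uniform fibres of `(b₁, b₂) ↦ b₁ w b₂`). -/

set_option autoImplicit false

namespace Cfsg.Agent.U33

open Cfsg

open scoped ComplexConjugate

universe u

section abstract

variable {G : Type u} [Group G] [Fintype G]

open Classical in
/-- the double sum over `B × B` of `F (b₁ w b₂)` is `|B ∩ wBw⁻¹|` times the sum of `F` over `BwB` -/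
theorem mk_double_sum (B : Subgroup G) (w : G) (F : G → ℂ) :
    ∑ b1 ∈ Finset.univ.filter (fun x : G => x ∈ B),
        ∑ b2 ∈ Finset.univ.filter (fun x : G => x ∈ B), F (b1 * w * b2) =
      ((Finset.univ.filter (fun s : G => s ∈ B ∧ w⁻¹ * s * w ∈ B)).card : ℂ) *
        ∑ x ∈ Finset.univ.filter (fun x : G => ∃ b1 ∈ B, ∃ b2 ∈ B, x = b1 * w * b2), F x := by
  -- step 1: reindex the inner sum
  have h1 : ∀ b1 : G, ∑ b2 ∈ Finset.univ.filter (fun x : G => x ∈ B), F (b1 * w * b2) =
      ∑ x ∈ Finset.univ.filter (fun x : G => w⁻¹ * b1⁻¹ * x ∈ B), F x := by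
    intro b1
    apply Finset.sum_equiv (Equiv.mulLeft (b1 * w))
    · intro b2
      simp only [Finset.mem_filter, Finset.mem_univ, true_and, Equiv.coe_mulLeft]
      have : w⁻¹ * b1⁻¹ * (b1 * w * b2) = b2 := by group
      rw [this]
    · intro b2 _
      rfl
  rw [Finset.sum_congr rfl (fun b1 _ => h1 b1)]
  -- step 2: swap
  rw [Finset.sum_comm' (s' := fun x : G => Finset.univ.filter
      (fun b1 : G => b1 ∈ B ∧ w⁻¹ * b1⁻¹ * x ∈ B)) (t' := Finset.univ)]
  swap
  · intro b1 x
    simp only [Finset.mem_filter, Finset.mem_univ, true_and, and_true]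
  -- step 3: the inner sum is a multiple of `F x`
  have h3 : ∀ x : G, ∑ _b1 ∈ Finset.univ.filter (fun b1 : G => b1 ∈ B ∧ w⁻¹ * b1⁻¹ * x ∈ B), F x =
      if (∃ b1 ∈ B, ∃ b2 ∈ B, x = b1 * w * b2) then
        ((Finset.univ.filter (fun s : G => s ∈ B ∧ w⁻¹ * s * w ∈ B)).card : ℂ) * F x else 0 := by
    intro x
    rw [Finset.sum_const, nsmul_eq_mul]
    split_ifs with hx
    · obtain ⟨c1, hc1, c2, hc2, rfl⟩ := hx
      congr 2
      apply Finset.card_equiv ((Equiv.inv G).trans (Equiv.mulRight c1))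
      intro b1
      simp only [Finset.mem_filter, Finset.mem_univ, true_and, Equiv.trans_apply, Equiv.inv_apply,
        Equiv.coe_mulRight]
      constructor
      · rintro ⟨hb1, hb⟩
        refine ⟨B.mul_mem (B.inv_mem hb1) hc1, ?_⟩
        have : w⁻¹ * (b1⁻¹ * c1) * w = (w⁻¹ * b1⁻¹ * (c1 * w * c2)) * c2⁻¹ := by group
        rw [this]
        exact B.mul_mem hb (B.inv_mem hc2)
      · rintro ⟨hb1, hb⟩
        constructor
        · have : b1 = c1 * (b1⁻¹ * c1)⁻¹ := by group
          rw [this]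
          exact B.mul_mem hc1 (B.inv_mem hb1)
        · have : w⁻¹ * b1⁻¹ * (c1 * w * c2) = (w⁻¹ * (b1⁻¹ * c1) * w) * c2 := by group
          rw [this]
          exact B.mul_mem hb hc2
    · have hempty : Finset.univ.filter (fun b1 : G => b1 ∈ B ∧ w⁻¹ * b1⁻¹ * x ∈ B) = ∅ := by
        rw [Finset.filter_eq_empty_iff]
        rintro b1 _ ⟨hb1, hb⟩
        apply hx
        refine ⟨b1, hb1, w⁻¹ * b1⁻¹ * x, hb, ?_⟩
        group
      rw [hempty, Finset.card_empty, Nat.cast_zero, zero_mul]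
  rw [Finset.sum_congr rfl (fun x _ => h3 x), ← Finset.sum_filter, Finset.mul_sum]

end abstract

end Cfsg.Agent.U33
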