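import Mathlib
import Cfsg.Agent.Lib.U33.U33Defs

/-! S3670 module U33-MK, part (b): group-theoretic facts from a `GSetup`: `B = U·⟨t⟩`, `B ∩ wBw⁻¹ = ⟨t⟩`, `w ∉ B`. -/

set_option autoImplicit false

namespace Cfsg.Agent.U33

open Cfsg

universe u

section gfacts

variable {G : Type u} [Group G] (S : GSetup G)

theorem mk_t_pow_conj (k : ℕ) : S.w⁻¹ * S.t ^ k * S.w = S.t ^ (5 * k) := by
  induction k with
  | zero => simp
  | succ k ih =>
    have h1 : S.w⁻¹ * S.t ^ (k + 1) * S.w = (S.w⁻¹ * S.t ^ k * S.w) * (S.w⁻¹ * S.t * S.w) := by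
      rw [pow_succ]; group
    rw [h1, ih, S.w_t, ← pow_add]
    congr 1

theorem mk_t_mem_B : S.t ∈ S.B :=
  (le_sup_right : Subgroup.zpowers S.t ≤ S.U ⊔ Subgroup.zpowers S.t) (Subgroup.mem_zpowers S.t)

theorem mk_t_pow_mem_B (k : ℕ) : S.t ^ k ∈ S.B := S.B.pow_mem (mk_t_mem_B S) k

theorem mk_U_le_B : S.U ≤ S.B := le_sup_left

theorem mk_t_pow_eight : S.t ^ 8 = 1 := by
  rw [← S.order_t]; exact pow_orderOf_eq_one S.t

theorem mk_t_pow_norm (n : ℕ) : ∀ u ∈ S.U, S.t ^ n * u * (S.t ^ n)⁻¹ ∈ S.U := by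
  induction n with
  | zero => intro u hu; simpa using hu
  | succ n ih =>
    intro u hu
    have h1 : S.t ^ (n + 1) * u * (S.t ^ (n + 1))⁻¹ = S.t * (S.t ^ n * u * (S.t ^ n)⁻¹) * S.t⁻¹ := by
      rw [pow_succ']; group
    rw [h1]
    exact S.t_norm _ (ih u hu)

theorem mk_t_mem_normalizer : S.t ∈ Subgroup.normalizer (S.U : Set G) := by
  rw [Subgroup.mem_normalizer_iff]
  intro h
  constructor
  · intro hh
    exact S.t_norm h hh
  · intro hh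
    have h7 := mk_t_pow_norm S 7 _ hh
    have h8 : S.t ^ 7 * S.t = 1 := by rw [← pow_succ]; exact mk_t_pow_eight S
    have e : S.t ^ 7 * (S.t * h * S.t⁻¹) * (S.t ^ 7)⁻¹ = h := by
      have e1 : S.t ^ 7 = S.t⁻¹ := eq_inv_of_mul_eq_one_left h8
      rw [e1]; group
    rw [e] at h7
    exact h7

/-- every element of `B` is `u * t ^ j` -/
theorem mk_mem_B_iff (x : G) : x ∈ S.B ↔ ∃ u ∈ S.U, ∃ j : ℕ, j < 8 ∧ x = u * S.t ^ j := by
  constructor
  · intro hx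
    have hLE : Subgroup.zpowers S.t ≤ Subgroup.normalizer (S.U : Set G) :=
      Subgroup.zpowers_le.2 (mk_t_mem_normalizer S)
    have hset := Subgroup.coe_mul_of_right_le_normalizer_left S.U (Subgroup.zpowers S.t) hLE
    have hx' : x ∈ ((S.U ⊔ Subgroup.zpowers S.t : Subgroup G) : Set G) := hx
    rw [hset] at hx'
    obtain ⟨u, hu, s, hs, rfl⟩ := hx'
    obtain ⟨k, rfl⟩ := Subgroup.mem_zpowers_iff.1 hs
    refine ⟨u, hu, (k % 8).toNat, ?_, ?_⟩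
    · omega
    · have h1 : S.t ^ k = S.t ^ (k % 8) := by
        have := zpow_mod_orderOf S.t k
        rw [S.order_t] at this
        exact this.symm
      have h2 : ((k % 8).toNat : ℤ) = k % 8 := Int.toNat_of_nonneg (by omega)
      show u * S.t ^ k = u * S.t ^ (k % 8).toNat
      rw [h1, ← zpow_natCast, h2]
  · rintro ⟨u, hu, j, _, rfl⟩
    exact S.B.mul_mem (mk_U_le_B S hu) (mk_t_pow_mem_B S j)

/-- `B ∩ wBw⁻¹ = ⟨t⟩` -/
theorem mk_inter_iff (s : G) :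
    (s ∈ S.B ∧ S.w⁻¹ * s * S.w ∈ S.B) ↔ ∃ j : ℕ, j < 8 ∧ s = S.t ^ j := by
  constructor
  · rintro ⟨hs, hws⟩
    obtain ⟨u, hu, j, hj, rfl⟩ := (mk_mem_B_iff S s).1 hs
    have h1 : S.w⁻¹ * u * S.w = (S.w⁻¹ * (u * S.t ^ j) * S.w) * (S.w⁻¹ * S.t ^ j * S.w)⁻¹ := by group
    have h2 : S.w⁻¹ * u * S.w ∈ S.B := by
      rw [h1, mk_t_pow_conj]
      exact S.B.mul_mem hws (S.B.inv_mem (mk_t_pow_mem_B S _))
    have h3 : u = 1 := S.w_U u hu h2
    exact ⟨j, hj, by rw [h3, one_mul]⟩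
  · rintro ⟨j, _, rfl⟩
    refine ⟨mk_t_pow_mem_B S j, ?_⟩
    rw [mk_t_pow_conj]
    exact mk_t_pow_mem_B S _

theorem mk_w_not_mem [Finite G] : S.w ∉ S.B := by
  intro hw
  have hU : 1 < Nat.card S.U := by rw [S.card_U]; norm_num
  haveI : Nontrivial S.U := (Finite.one_lt_card_iff_nontrivial).1 hU
  obtain ⟨⟨u, hu⟩, hne⟩ := exists_ne (1 : S.U)
  apply hne
  apply Subtype.ext
  apply S.w_U u hu
  exact S.B.mul_mem (S.B.mul_mem (S.B.inv_mem hw) (mk_U_le_B S hu)) hw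

end gfacts

end Cfsg.Agent.U33
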