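import Mathlib
import Cfsg.Agent.Lib.U33.U33Defs

/-! S3670 piece U33-PLUMB: the Borel subgroup `S.B = S.U ⊔ zpowers S.t` of a `GSetup` has order 216 and is a `BSetup`
(with `U := S.U.subgroupOf S.B`, `Z := S.Z.subgroupOf S.B`, `t := ⟨S.t, _⟩`).  Proved by helper15. -/

set_option autoImplicit false

namespace Cfsg.Agent.U33

universe u

open scoped Pointwise

/-- order of `N ⊔ K` when `K` normalises `N` and `N ⊓ K = ⊥` -/
theorem u33_plumb_card_sup {G : Type u} [Group G] (N K : Subgroup G)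
    (hK : K ≤ Subgroup.normalizer (N : Set G)) (h : N ⊓ K = ⊥) :
    Nat.card ↥(N ⊔ K) = Nat.card ↥N * Nat.card ↥K := by
  rw [← Nat.card_prod]
  symm
  let f : ↥N × ↥K → ↥(N ⊔ K) := fun x => ⟨(x.1 : G) * (x.2 : G),
      Subgroup.mul_mem _ (Subgroup.mem_sup_left x.1.2) (Subgroup.mem_sup_right x.2.2)⟩
  have hf : Function.Bijective f := by
    constructor
    · rintro ⟨n₁, k₁⟩ ⟨n₂, k₂⟩ hnk
      have h' : (n₁ : G) * (k₁ : G) = (n₂ : G) * (k₂ : G) := congrArg Subtype.val hnk
      have h1 : (n₂ : G)⁻¹ * (n₁ : G) = (k₂ : G) * (k₁ : G)⁻¹ := by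
        rw [inv_mul_eq_iff_eq_mul, ← mul_assoc, ← h', mul_assoc, mul_inv_cancel, mul_one]
      have h2 : (n₂ : G)⁻¹ * (n₁ : G) ∈ N ⊓ K := by
        refine ⟨N.mul_mem (N.inv_mem n₂.2) n₁.2, ?_⟩
        rw [h1]
        exact K.mul_mem k₂.2 (K.inv_mem k₁.2)
      rw [h, Subgroup.mem_bot] at h2
      have h3 : (n₁ : G) = n₂ := by
        rw [inv_mul_eq_one] at h2
        exact h2.symm
      have h4 : (k₁ : G) = k₂ := by
        rw [h3] at h'
        exact mul_left_cancel h'
      exact Prod.ext (Subtype.ext h3) (Subtype.ext h4)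
    · rintro ⟨y, hy⟩
      have hy' : y ∈ ((N ⊔ K : Subgroup G) : Set G) := hy
      rw [Subgroup.coe_mul_of_right_le_normalizer_left N K hK, Set.mem_mul] at hy'
      obtain ⟨n, hn, k, hk, rfl⟩ := hy'
      exact ⟨(⟨n, hn⟩, ⟨k, hk⟩), rfl⟩
  exact Nat.card_congr (Equiv.ofBijective f hf)

/-- powers of `t` conjugate `U` into itself -/
theorem u33_plumb_pow_norm {G : Type u} [Group G] (S : GSetup G) (k : ℕ) :
    ∀ x ∈ S.U, S.t ^ k * x * (S.t ^ k)⁻¹ ∈ S.U := by
  induction k with
  | zero => intro x hx; simpa using hx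
  | succ k ih =>
    intro x hx
    have h1 := S.t_norm _ (ih x hx)
    have e : S.t ^ (k + 1) * x * (S.t ^ (k + 1))⁻¹ = S.t * (S.t ^ k * x * (S.t ^ k)⁻¹) * S.t⁻¹ := by
      rw [pow_succ']; group
    rw [e]
    exact h1

theorem u33_plumb_t_mem_normalizer {G : Type u} [Group G] (S : GSetup G) :
    S.t ∈ Subgroup.normalizer (S.U : Set G) := by
  rw [Subgroup.mem_normalizer_iff]
  intro x
  constructor
  · exact S.t_norm x
  · intro hx
    have h8 : S.t ^ 8 = 1 := by rw [← S.order_t]; exact pow_orderOf_eq_one _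
    have hinv : S.t⁻¹ = S.t ^ 7 := by
      rw [inv_eq_iff_mul_eq_one, ← pow_succ']
      exact h8
    have h1 := u33_plumb_pow_norm S 7 _ hx
    rw [← hinv] at h1
    have e : S.t⁻¹ * (S.t * x * S.t⁻¹) * S.t⁻¹⁻¹ = x := by group
    rw [e] at h1
    exact h1

theorem u33_plumb_zpowers_le {G : Type u} [Group G] (S : GSetup G) :
    Subgroup.zpowers S.t ≤ Subgroup.normalizer (S.U : Set G) := by
  rw [Subgroup.zpowers_le]
  exact u33_plumb_t_mem_normalizer S

theorem u33_plumb_card_zpowers {G : Type u} [Group G] (S : GSetup G) :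
    Nat.card ↥(Subgroup.zpowers S.t) = 8 := by
  rw [Nat.card_zpowers, S.order_t]

theorem u33_plumb_inf {G : Type u} [Group G] (S : GSetup G) :
    S.U ⊓ Subgroup.zpowers S.t = ⊥ := by
  apply Disjoint.eq_bot
  apply Subgroup.disjoint_of_coprime_natCard
  rw [S.card_U, u33_plumb_card_zpowers S]
  decide

theorem card_B {G : Type u} [Group G] [Finite G] (S : GSetup G) : Nat.card ↥S.B = 216 := by
  unfold GSetup.B
  rw [u33_plumb_card_sup S.U (Subgroup.zpowers S.t) (u33_plumb_zpowers_le S) (u33_plumb_inf S),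
    S.card_U, u33_plumb_card_zpowers S]

theorem exists_bsetup {G : Type u} [Group G] [Finite G] (S : GSetup G) :
    ∃ S' : BSetup ↥S.B, ((S'.t : ↥S.B) : G) = S.t := by
  have hUB : S.U ≤ S.B := le_sup_left
  have hZB : S.Z ≤ S.B := le_trans S.Z_le_U hUB
  have htB : S.t ∈ S.B := Subgroup.mem_sup_right (Subgroup.mem_zpowers S.t)
  have hBN : S.B ≤ Subgroup.normalizer (S.U : Set G) :=
    sup_le Subgroup.le_normalizer (u33_plumb_zpowers_le S)
  refine ⟨{
    U := S.U.subgroupOf S.B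
    Z := S.Z.subgroupOf S.B
    t := ⟨S.t, htB⟩
    card_B := card_B S
    U_normal := (Subgroup.normal_subgroupOf_iff_le_normalizer hUB).2 hBN
    card_U := by
      rw [Nat.card_congr (Subgroup.subgroupOfEquivOfLe hUB).toEquiv, S.card_U]
    card_Z := by
      rw [Nat.card_congr (Subgroup.subgroupOfEquivOfLe hZB).toEquiv, S.card_Z]
    Z_le_U := by
      intro x hx
      rw [Subgroup.mem_subgroupOf] at hx ⊢
      exact S.Z_le_U hx
    order_t := by
      rw [Subgroup.orderOf_mk, S.order_t]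
    Z_central := by
      intro z hz x hx
      rw [Subgroup.mem_subgroupOf] at hz hx
      apply Subtype.ext
      rw [Subgroup.coe_mul, Subgroup.coe_mul]
      exact S.Z_central _ hz _ hx
    Z_comm := by
      obtain ⟨u₁, h1, u₂, h2, hmem, hne⟩ := S.Z_comm
      refine ⟨⟨u₁, hUB h1⟩, ?_, ⟨u₂, hUB h2⟩, ?_, ?_, ?_⟩
      · rw [Subgroup.mem_subgroupOf]; exact h1
      · rw [Subgroup.mem_subgroupOf]; exact h2
      · rw [Subgroup.mem_subgroupOf]
        simpa using hmem
      · intro h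
        apply hne
        have := congrArg (fun y : ↥S.B => (y : G)) h
        simpa using this
    t_inv_Z := by
      intro z hz
      rw [Subgroup.mem_subgroupOf] at hz
      apply Subtype.ext
      have := S.t_inv_Z _ hz
      simpa using this
    t4_inv := by
      intro x hx
      rw [Subgroup.mem_subgroupOf] at hx ⊢
      have := S.t4_inv _ hx
      simpa using this }, rfl⟩

end Cfsg.Agent.U33
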