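import Mathlib
import Cfsg.Agent.Lib.U33.U33Defs
import Cfsg.Agent.Lib.U33.U33MKa
import Cfsg.Agent.Lib.U33.U33MKb
import Cfsg.Agent.Lib.U33.U33PLUMB
import Cfsg.Agent.Lib.Helper24.CharInduced

/-! S3670 module U33-MK, part (c): `G = B ⊔ BwB` by counting, and the value of `Ind_B^G φ'` on `B`. -/

set_option autoImplicit false

namespace Cfsg.Agent.U33

open Cfsg Cfsg.Agent.Helper24

open scoped ComplexConjugate

universe u

section count

variable {G : Type u} [Group G] [Fintype G] (S : GSetup G)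

open Classical in
theorem mk_card_Bf : (Finset.univ.filter (fun x : G => x ∈ S.B)).card = 216 := by
  have h1 : Nat.card ↥S.B = 216 := card_B S
  rw [Nat.card_eq_fintype_card,
    Fintype.card_of_subtype (Finset.univ.filter (fun x : G => x ∈ S.B)) (fun x => by simp)] at h1
  exact h1

open Classical in
theorem mk_K_eq : Finset.univ.filter (fun s : G => s ∈ S.B ∧ S.w⁻¹ * s * S.w ∈ S.B) =
    (Finset.range 8).image (fun j => S.t ^ j) := by
  ext s
  simp only [Finset.mem_filter, Finset.mem_univ, true_and, Finset.mem_image, Finset.mem_range]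
  rw [mk_inter_iff]
  constructor
  · rintro ⟨j, hj, rfl⟩; exact ⟨j, hj, rfl⟩
  · rintro ⟨j, hj, rfl⟩; exact ⟨j, hj, rfl⟩

theorem mk_pow_injOn : Set.InjOn (fun j : ℕ => S.t ^ j) (Finset.range 8 : Set ℕ) := by
  have h := pow_injOn_Iio_orderOf (x := S.t)
  rw [S.order_t] at h
  intro a ha b hb hab
  exact h (by simpa using ha) (by simpa using hb) hab

open Classical in
theorem mk_card_K :
    (Finset.univ.filter (fun s : G => s ∈ S.B ∧ S.w⁻¹ * s * S.w ∈ S.B)).card = 8 := by
  rw [mk_K_eq, Finset.card_image_of_injOn (mk_pow_injOn S), Finset.card_range]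

open Classical in
theorem mk_card_D :
    (Finset.univ.filter (fun x : G => ∃ b1 ∈ S.B, ∃ b2 ∈ S.B, x = b1 * S.w * b2)).card = 5832 := by
  have h := mk_double_sum S.B S.w (fun _ => (1 : ℂ))
  simp only [Finset.sum_const, nsmul_eq_mul, mul_one, mk_card_Bf, mk_card_K] at h
  have h2 : ((216 * 216 : ℕ) : ℂ) = ((8 * (Finset.univ.filter
      (fun x : G => ∃ b1 ∈ S.B, ∃ b2 ∈ S.B, x = b1 * S.w * b2)).card : ℕ) : ℂ) := by
    push_cast
    push_cast at h
    rw [← h]
    norm_num
  have h3 := Nat.cast_injective h2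
  omega

open Classical in
theorem mk_disjoint : Disjoint (Finset.univ.filter (fun x : G => x ∈ S.B))
    (Finset.univ.filter (fun x : G => ∃ b1 ∈ S.B, ∃ b2 ∈ S.B, x = b1 * S.w * b2)) := by
  rw [Finset.disjoint_left]
  intro x hx hx'
  simp only [Finset.mem_filter, Finset.mem_univ, true_and] at hx hx'
  obtain ⟨b1, hb1, b2, hb2, rfl⟩ := hx'
  apply mk_w_not_mem S
  have : S.w = b1⁻¹ * (b1 * S.w * b2) * b2⁻¹ := by group
  rw [this]
  exact S.B.mul_mem (S.B.mul_mem (S.B.inv_mem hb1) hx) (S.B.inv_mem hb2)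

open Classical in
theorem mk_union : Finset.univ.filter (fun x : G => x ∈ S.B) ∪
    Finset.univ.filter (fun x : G => ∃ b1 ∈ S.B, ∃ b2 ∈ S.B, x = b1 * S.w * b2) = Finset.univ := by
  apply Finset.eq_univ_of_card
  rw [Finset.card_union_of_disjoint (mk_disjoint S), mk_card_Bf, mk_card_D,
    ← Nat.card_eq_fintype_card, S.card_G]

end count

end Cfsg.Agent.U33
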