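import Mathlib
import Cfsg.Agent.Lib.U33.U33Defs
import Cfsg.Agent.Lib.U33.U33MKc

/-! S3670 module U33-MK, part (d): the value of `Ind_B^G φ'` on `B`. -/

set_option autoImplicit false

namespace Cfsg.Agent.U33

open Cfsg Cfsg.Agent.Helper24

open scoped ComplexConjugate

universe u

theorem mk_ext_conj {G : Type u} [Group G] (B : Subgroup G) (φ' : ↥B → ℂ)
    (hφ' : IsClassFunction ↥B φ') (b : G) (hb : b ∈ B) (y : G) :
    extendByZero B φ' (b⁻¹ * y * b) = extendByZero B φ' y := by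
  by_cases hy : y ∈ B
  · have h1 : b⁻¹ * y * b ∈ B := B.mul_mem (B.mul_mem (B.inv_mem hb) hy) hb
    rw [extendByZero_of_mem B φ' h1, extendByZero_of_mem B φ' hy]
    have h2 := hφ' ⟨y, hy⟩ (⟨b, hb⟩ : ↥B)⁻¹
    rw [← h2]
    congr 1
    apply Subtype.ext
    simp
  · have h1 : b⁻¹ * y * b ∉ B := by
      intro h
      apply hy
      have : y = b * (b⁻¹ * y * b) * b⁻¹ := by group
      rw [this]
      exact B.mul_mem (B.mul_mem hb h) (B.inv_mem hb)
    rw [extendByZero_of_not_mem B φ' h1, extendByZero_of_not_mem B φ' hy]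

section value

variable {G : Type u} [Group G] [Fintype G] (S : GSetup G)

open Classical in
/-- the sum defining `Ind_B^G φ'` at `h ∈ B` -/
theorem mk_sum_conj (φ' : ↥S.B → ℂ) (hφ' : IsClassFunction ↥S.B φ') (h : G) :
    ∑ x : G, extendByZero S.B φ' (x⁻¹ * h * x) = 216 * extendByZero S.B φ' h +
      27 * ∑ b1 ∈ Finset.univ.filter (fun x : G => x ∈ S.B),
        extendByZero S.B φ' (S.w⁻¹ * (b1⁻¹ * h * b1) * S.w) := by
  have hsplit := Finset.sum_union (mk_disjoint S)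
    (f := fun x : G => extendByZero S.B φ' (x⁻¹ * h * x))
  rw [mk_union S] at hsplit
  rw [hsplit]
  -- the sum over `B`
  have hB : ∑ x ∈ Finset.univ.filter (fun x : G => x ∈ S.B), extendByZero S.B φ' (x⁻¹ * h * x) =
      216 * extendByZero S.B φ' h := by
    have : ∀ x ∈ Finset.univ.filter (fun x : G => x ∈ S.B),
        extendByZero S.B φ' (x⁻¹ * h * x) = extendByZero S.B φ' h := by
      intro x hx
      exact mk_ext_conj S.B φ' hφ' x (Finset.mem_filter.1 hx).2 h
    rw [Finset.sum_congr rfl this, Finset.sum_const, mk_card_Bf, nsmul_eq_mul]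
    norm_num
  -- the sum over `BwB`
  have hD := mk_double_sum S.B S.w (fun x : G => extendByZero S.B φ' (x⁻¹ * h * x))
  rw [mk_card_K] at hD
  have hinner : ∀ b1 ∈ Finset.univ.filter (fun x : G => x ∈ S.B),
      ∑ b2 ∈ Finset.univ.filter (fun x : G => x ∈ S.B),
        extendByZero S.B φ' ((b1 * S.w * b2)⁻¹ * h * (b1 * S.w * b2)) =
      216 * extendByZero S.B φ' (S.w⁻¹ * (b1⁻¹ * h * b1) * S.w) := by
    intro b1 _
    have : ∀ b2 ∈ Finset.univ.filter (fun x : G => x ∈ S.B),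
        extendByZero S.B φ' ((b1 * S.w * b2)⁻¹ * h * (b1 * S.w * b2)) =
          extendByZero S.B φ' (S.w⁻¹ * (b1⁻¹ * h * b1) * S.w) := by
      intro b2 hb2
      have e : (b1 * S.w * b2)⁻¹ * h * (b1 * S.w * b2) =
          b2⁻¹ * (S.w⁻¹ * (b1⁻¹ * h * b1) * S.w) * b2 := by group
      rw [e]
      exact mk_ext_conj S.B φ' hφ' b2 (Finset.mem_filter.1 hb2).2 _
    rw [Finset.sum_congr rfl this, Finset.sum_const, mk_card_Bf, nsmul_eq_mul]
    norm_num
  rw [Finset.sum_congr rfl hinner, ← Finset.mul_sum] at hD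
  have hD' : ∑ x ∈ Finset.univ.filter (fun x : G => ∃ b1 ∈ S.B, ∃ b2 ∈ S.B, x = b1 * S.w * b2),
      extendByZero S.B φ' (x⁻¹ * h * x) =
      27 * ∑ b1 ∈ Finset.univ.filter (fun x : G => x ∈ S.B),
        extendByZero S.B φ' (S.w⁻¹ * (b1⁻¹ * h * b1) * S.w) := by
    have h8 : ((8 : ℕ) : ℂ) ≠ 0 := by norm_num
    apply mul_left_cancel₀ h8
    rw [← hD]
    push_cast
    ring
  rw [hB, hD']

end value

end Cfsg.Agent.U33
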