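import Mathlib
import Cfsg.Agent.Lib.U33.U33Defs
import Cfsg.Agent.Lib.U33.U33MKd

/-! S3670 module U33-MK: the two-double-coset Mackey formula for `G = B ⊔ BwB`, `B ∩ wBw⁻¹ = T`
(see plans/S3670_plan.md, section MK).  Parts (a)–(d) are in `U33MKa.lean` … `U33MKd.lean`. -/

set_option autoImplicit false

namespace Cfsg.Agent.U33

open Cfsg

universe u

open Cfsg.Agent.Helper24 in
open scoped ComplexConjugate in
/-- the torus sum -/
theorem mk_torus_sum {G : Type u} [Group G] [Fintype G] (S : GSetup G) [Fintype ↥S.B]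
    (tB : ↥S.B) (htB : (tB : G) = S.t) (φ φ' : ↥S.B → ℂ) :
    ∑ h : ↥S.B, φ h * conj (extendByZero S.B φ' (S.w⁻¹ * (h : G) * S.w)) =
      ∑ j ∈ Finset.range 8, φ (tB ^ j) * conj (φ' (tB ^ (5 * j))) := by
  classical
  have hcoe : ∀ j : ℕ, ((tB ^ j : ↥S.B) : G) = S.t ^ j := by
    intro j
    rw [Subgroup.coe_pow, htB]
  have hinj : Set.InjOn (fun j : ℕ => tB ^ j) (Finset.range 8 : Set ℕ) := by
    intro a ha b hb hab
    apply mk_pow_injOn S ha hb
    show S.t ^ a = S.t ^ b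
    rw [← hcoe a, ← hcoe b]
    exact congrArg Subtype.val hab
  have hsub : ∑ h ∈ (Finset.range 8).image (fun j => tB ^ j),
      φ h * conj (extendByZero S.B φ' (S.w⁻¹ * (h : G) * S.w)) =
      ∑ h : ↥S.B, φ h * conj (extendByZero S.B φ' (S.w⁻¹ * (h : G) * S.w)) := by
    apply Finset.sum_subset (Finset.subset_univ _)
    intro h _ hh
    have hnot : S.w⁻¹ * (h : G) * S.w ∉ S.B := by
      intro hmem
      apply hh
      obtain ⟨j, hj, hj'⟩ := (mk_inter_iff S (h : G)).1 ⟨h.2, hmem⟩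
      rw [Finset.mem_image]
      refine ⟨j, Finset.mem_range.2 hj, ?_⟩
      apply Subtype.ext
      rw [hcoe, hj']
    rw [extendByZero_of_not_mem S.B φ' hnot, map_zero, mul_zero]
  rw [← hsub, Finset.sum_image hinj]
  refine Finset.sum_congr rfl fun j _ => ?_
  have e : S.w⁻¹ * ((tB ^ j : ↥S.B) : G) * S.w = ((tB ^ (5 * j) : ↥S.B) : G) := by
    rw [hcoe, hcoe, mk_t_pow_conj]
  rw [e, extendByZero_coe]

open Cfsg.Agent.Helper24 in
open scoped ComplexConjugate in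
theorem mackey_gsetup {G : Type u} [Group G] [Fintype G] (S : GSetup G) [Fintype ↥S.B]
    (tB : ↥S.B) (htB : (tB : G) = S.t) (φ φ' : ↥S.B → ℂ) (hφ : IsClassFunction ↥S.B φ)
    (hφ' : IsClassFunction ↥S.B φ') :
    classInner (indFun S.B φ) (indFun S.B φ') = classInner φ φ' + tPair tB φ φ' := by
  classical
  rw [frobenius_reciprocity S.B φ (isClassFunction_indFun S.B φ')]
  -- the value of the induced function on `B`
  have hval : ∀ h : ↥S.B, indFun S.B φ' (h : G) = φ' h + (8 : ℂ)⁻¹ *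
      ∑ b1 ∈ Finset.univ.filter (fun x : G => x ∈ S.B),
        extendByZero S.B φ' (S.w⁻¹ * (b1⁻¹ * (h : G) * b1) * S.w) := by
    intro h
    rw [indFun_apply, mk_sum_conj S φ' hφ', card_B S, extendByZero_coe]
    push_cast
    ring
  -- conjugate of `8⁻¹`
  have hc8 : conj ((8 : ℂ)⁻¹) = (8 : ℂ)⁻¹ := by
    rw [map_inv₀]
    congr 1
    exact Complex.conj_ofNat 8
  -- expand the sum
  have e1 : ∑ h : ↥S.B, φ h * conj (indFun S.B φ' (h : G)) =
      ∑ h : ↥S.B, φ h * conj (φ' h) + (8 : ℂ)⁻¹ *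
        ∑ h : ↥S.B, ∑ b1 ∈ Finset.univ.filter (fun x : G => x ∈ S.B),
          φ h * conj (extendByZero S.B φ' (S.w⁻¹ * (b1⁻¹ * (h : G) * b1) * S.w)) := by
    rw [Finset.mul_sum, ← Finset.sum_add_distrib]
    refine Finset.sum_congr rfl fun h _ => ?_
    rw [hval h, map_add, map_mul, hc8, map_sum, mul_add, Finset.mul_sum, Finset.mul_sum,
      Finset.mul_sum]
    congr 1
    refine Finset.sum_congr rfl fun b1 _ => ?_
    ring
  -- reindex by conjugation
  have e2 : ∑ h : ↥S.B, ∑ b1 ∈ Finset.univ.filter (fun x : G => x ∈ S.B),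
        φ h * conj (extendByZero S.B φ' (S.w⁻¹ * (b1⁻¹ * (h : G) * b1) * S.w)) =
      216 * ∑ h : ↥S.B, φ h * conj (extendByZero S.B φ' (S.w⁻¹ * (h : G) * S.w)) := by
    rw [Finset.sum_comm]
    have : ∀ b1 ∈ Finset.univ.filter (fun x : G => x ∈ S.B),
        ∑ h : ↥S.B, φ h * conj (extendByZero S.B φ' (S.w⁻¹ * (b1⁻¹ * (h : G) * b1) * S.w)) =
        ∑ h : ↥S.B, φ h * conj (extendByZero S.B φ' (S.w⁻¹ * (h : G) * S.w)) := by
      intro b1 hb1
      have hb1B : b1 ∈ S.B := (Finset.mem_filter.1 hb1).2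
      rw [← Equiv.sum_comp (MulAut.conj (⟨b1, hb1B⟩ : ↥S.B)).toEquiv]
      refine Finset.sum_congr rfl fun h _ => ?_
      have h1 : (MulAut.conj (⟨b1, hb1B⟩ : ↥S.B)).toEquiv h = ⟨b1, hb1B⟩ * h * (⟨b1, hb1B⟩ : ↥S.B)⁻¹ :=
        rfl
      rw [h1, hφ h ⟨b1, hb1B⟩]
      congr 3
      simp only [Subgroup.coe_mul, Subgroup.coe_inv]
      group
    rw [Finset.sum_congr rfl this, Finset.sum_const, mk_card_Bf, nsmul_eq_mul]
    norm_num
  unfold classInner tPair
  rw [e1, e2, mk_torus_sum S tB htB φ φ', card_B S]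
  push_cast
  ring

end Cfsg.Agent.U33
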