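import Mathlib
import Cfsg.Agent.Lib.U33.U33Defs
import Cfsg.Agent.Lib.Helper24.CharIntegral

/-! S3670 piece U33-TOP: the degree graph of a group of order 6048 with degrees divisible by 6, 14, 21. -/

set_option autoImplicit false

namespace Cfsg.Agent.U33

open Cfsg

universe u

/-- the complete graph on {2,3,7} -/
def K237 : SimpleGraph ℕ where
  Adj p q := p ≠ q ∧ (p = 2 ∨ p = 3 ∨ p = 7) ∧ (q = 2 ∨ q = 3 ∨ q = 7)
  symm := ⟨fun _ _ h => ⟨Ne.symm h.1, h.2.2, h.2.1⟩⟩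
  loopless := ⟨fun _ h => h.1 rfl⟩

/-- a prime dividing `6048` is `2`, `3` or `7` -/
theorem u33top_prime_dvd {p : ℕ} (hp : p.Prime) (h : p ∣ 6048) : p = 2 ∨ p = 3 ∨ p = 7 := by
  have e : (6048 : ℕ) = 2 ^ 5 * 3 ^ 3 * 7 := by norm_num
  rw [e] at h
  rcases (Nat.Prime.dvd_mul hp).mp h with h1 | h1
  · rcases (Nat.Prime.dvd_mul hp).mp h1 with h2 | h2
    · left
      exact (Nat.prime_dvd_prime_iff_eq hp Nat.prime_two).mp (hp.dvd_of_dvd_pow h2)
    · right; left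
      exact (Nat.prime_dvd_prime_iff_eq hp Nat.prime_three).mp (hp.dvd_of_dvd_pow h2)
  · right; right
    exact (Nat.prime_dvd_prime_iff_eq hp (by norm_num : Nat.Prime 7)).mp h1

/-- every character degree of a group of order `6048` divides `6048` -/
theorem u33top_degree_dvd {X : Type u} [Group X] [Finite X] (hc : Nat.card X = 6048) {d : ℕ}
    (hd : d ∈ charDegrees X) : d ∣ 6048 := by
  classical
  haveI : Fintype X := Fintype.ofFinite X
  obtain ⟨χ, rfl⟩ := hd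
  rw [← hc]
  exact Cfsg.Agent.Helper24.charDegree_dvd_card χ.2

theorem graph_of_degrees {X : Type u} [Group X] [Finite X] (hc : Nat.card X = 6048)
    (h6 : ∃ d ∈ charDegrees X, 6 ∣ d) (h14 : ∃ d ∈ charDegrees X, 14 ∣ d)
    (h21 : ∃ d ∈ charDegrees X, 21 ∣ d) :
    degreePrimes X = {2, 3, 7} ∧ degreeGraph X = K237 := by
  obtain ⟨d6, hd6, h6d⟩ := h6
  obtain ⟨d14, hd14, h14d⟩ := h14
  obtain ⟨d21, hd21, h21d⟩ := h21
  have hpr : ∀ p : ℕ, p.Prime → (∃ d ∈ charDegrees X, p ∣ d) → p = 2 ∨ p = 3 ∨ p = 7 := by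
    rintro p hp ⟨d, hd, hpd⟩
    exact u33top_prime_dvd hp (hpd.trans (u33top_degree_dvd hc hd))
  constructor
  · ext p
    simp only [degreePrimes, Set.mem_setOf_eq, Set.mem_insert_iff, Set.mem_singleton_iff]
    constructor
    · rintro ⟨hp, h⟩
      exact hpr p hp h
    · rintro (rfl | rfl | rfl)
      · exact ⟨Nat.prime_two, d6, hd6, (by norm_num : 2 ∣ 6).trans h6d⟩
      · exact ⟨Nat.prime_three, d6, hd6, (by norm_num : 3 ∣ 6).trans h6d⟩
      · exact ⟨by norm_num, d14, hd14, (by norm_num : 7 ∣ 14).trans h14d⟩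
  · ext p q
    show (p ≠ q ∧ p.Prime ∧ q.Prime ∧ ∃ d ∈ charDegrees X, p * q ∣ d) ↔
      (p ≠ q ∧ (p = 2 ∨ p = 3 ∨ p = 7) ∧ (q = 2 ∨ q = 3 ∨ q = 7))
    constructor
    · rintro ⟨hne, hp, hq, d, hd, hpq⟩
      refine ⟨hne, hpr p hp ⟨d, hd, (Dvd.intro _ rfl).trans hpq⟩,
        hpr q hq ⟨d, hd, (Dvd.intro_left _ rfl).trans hpq⟩⟩
    · rintro ⟨hne, hp, hq⟩
      have p2 := Nat.prime_two
      have p3 := Nat.prime_three
      have p7 : Nat.Prime 7 := by norm_num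
      rcases hp with rfl | rfl | rfl <;> rcases hq with rfl | rfl | rfl
      · exact absurd rfl hne
      · exact ⟨hne, p2, p3, d6, hd6, h6d⟩
      · exact ⟨hne, p2, p7, d14, hd14, h14d⟩
      · exact ⟨hne, p3, p2, d6, hd6, h6d⟩
      · exact absurd rfl hne
      · exact ⟨hne, p3, p7, d21, hd21, h21d⟩
      · exact ⟨hne, p7, p2, d14, hd14, h14d⟩
      · exact ⟨hne, p7, p3, d21, hd21, h21d⟩
      · exact absurd rfl hne

end Cfsg.Agent.U33
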