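import Mathlib
import Cfsg.Agent.Lib.U33.U33Defs
import Cfsg.Agent.Lib.U33.U33TOP
import Cfsg.Agent.Lib.U33.U33HSIDE
import Cfsg.Agent.Lib.U33.U33CONC
import Cfsg.Agent.Lib.U33.U33PLUMB
import Cfsg.Agent.Lib.U33.U33BT
import Cfsg.Agent.Lib.U33.U33MK
import Cfsg.Agent.Lib.U33.U33HC
import Cfsg.Agent.Lib.Helper15.G2U3c
import Cfsg.Agent.Lib.Helper12.PSL2DegGraph
import Cfsg.Agent.S0283

/-! S3670: assembly of the modules (helper13). -/

set_option autoImplicit false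

namespace Cfsg.Agent.U33

open Cfsg

universe u

/-- the degrees of a simple group with a `GSetup` -/
theorem degrees_of_gsetup {G : Type u} [Group G] [Fintype G] (hs : IsSimpleGroup G)
    (S : GSetup G) :
    (∃ d ∈ charDegrees G, 6 ∣ d) ∧ (∃ d ∈ charDegrees G, 14 ∣ d) ∧
      (∃ d ∈ charDegrees G, 21 ∣ d) := by
  obtain ⟨S', hS'⟩ := exists_bsetup S
  obtain ⟨ch⟩ := bchars_of_bsetup S'
  exact hc_main
    { B := S.B
      tB := S'.t
      ch := ch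
      card_G := S.card_G
      card_B := card_B S
      simple := hs
      mackey := fun φ φ' hφ hφ' => mackey_gsetup S S'.t hS' φ φ' hφ hφ' }

theorem psu_degrees {F : Type*} [Field F] [Fintype F] (hF : Fintype.card F = 9) :
    Nat.card (Cfsg.PSU 3 F 3) = 6048 ∧
    (∃ d ∈ charDegrees (Cfsg.PSU 3 F 3), 6 ∣ d) ∧ (∃ d ∈ charDegrees (Cfsg.PSU 3 F 3), 14 ∣ d) ∧
      (∃ d ∈ charDegrees (Cfsg.PSU 3 F 3), 21 ∣ d) := by
  obtain ⟨hc, ⟨e⟩⟩ := Cfsg.Agent.Helper15.G2U3.psu_equiv hF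
  have hs : IsSimpleGroup (Cfsg.PSU 3 F 3) :=
    Cfsg.Agent.S0283.result (q := 3) (by rw [hF]; norm_num) 3 (le_refl 3) (by omega)
  have hsR : IsSimpleGroup ↥Cfsg.Agent.Helper15.G2U3.RB := (MulEquiv.isSimpleGroup_congr e).mp hs
  obtain ⟨S⟩ := exists_gsetup_RB
  haveI : Finite ↥Cfsg.Agent.Helper15.G2U3.RB := Nat.finite_of_card_ne_zero (by rw [hc]; norm_num)
  letI : Fintype ↥Cfsg.Agent.Helper15.G2U3.RB := Fintype.ofFinite _
  have h := degrees_of_gsetup hsR S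
  rw [← Cfsg.Agent.Helper12.PSL2Deg.charDegrees_congr e] at h
  refine ⟨?_, h⟩
  rw [Nat.card_congr e.toEquiv, hc]

theorem s3670 {F : Type*} [Field F] [Fintype F] (hF : Fintype.card F = 9) :
    ∃ (H : Type) (_ : Group H) (_ : Fintype H), Group.IsSolvable H ∧ Nat.card H = 6048 ∧
      Cfsg.degreePrimes H = Cfsg.degreePrimes (Cfsg.PSU 3 F 3) ∧
      Cfsg.degreeGraph H = Cfsg.degreeGraph (Cfsg.PSU 3 F 3) := by
  obtain ⟨H, iG, iF, hsol, hcard, d, hd, h42⟩ := exists_H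
  obtain ⟨hcP, h6, h14, h21⟩ := psu_degrees hF
  haveI : Finite (Cfsg.PSU 3 F 3) := Nat.finite_of_card_ne_zero (by rw [hcP]; norm_num)
  have hH := graph_of_degrees hcard ⟨d, hd, (by norm_num : 6 ∣ 42).trans h42⟩
    ⟨d, hd, (by norm_num : 14 ∣ 42).trans h42⟩ ⟨d, hd, (by norm_num : 21 ∣ 42).trans h42⟩
  have hP := graph_of_degrees hcP h6 h14 h21
  exact ⟨H, iG, iF, hsol, hcard, hH.1.trans hP.1.symm, hH.2.trans hP.2.symm⟩

end Cfsg.Agent.U33
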